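import Cfsg.Agent.S4696
import Cfsg.Agent.S0936
import Cfsg.Agent.S4652
import Cfsg.Agent.S0919
import Cfsg.Agent.S4502
import Cfsg.Agent.Blocks.Covering
import Cfsg.Agent.Blocks.ExistsModular
import Cfsg.Agent.Characters.Linear
import Cfsg.Agent.Characters.CCValues
import Cfsg.Agent.H672.Over
import Cfsg.Prelude.Def_DegreeGraph

/-!
# Principal blocks of groups with cyclic Sylow `p`-subgroups and small sets of character degrees (helper638)

* `struct` : S4696 for the principal block, with the trivial character among the nonexceptional ones;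
* `degs` : all character degrees in `{1, a, b, c}`: the count in the principal block;
* `exists_dvd` : a self-centralizing Sylow subgroup of order `p`, many element orders: `p` divides some degree.
-/

set_option autoImplicit false
set_option linter.unusedSectionVars false

namespace Cfsg.Agent.H638.FD.Blk

open Cfsg Cfsg.Agent.Characters Cfsg.Agent.Blocks

universe u

variable {G : Type u} [Group G] [Finite G] {p : ℕ} [hp : Fact p.Prime]

theorem coe_deg (χ : IrrCharacter G) : ((charDegree (χ : G → ℂ) : ℕ) : ℂ) = (χ : G → ℂ) 1 :=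
  H672.coe_charDegree χ.2

theorem deg_one : charDegree (CCValues.one G : G → ℂ) = 1 := by
  have h1 := coe_deg (CCValues.one G)
  have h2 : (CCValues.one G : G → ℂ) 1 = 1 := rfl
  rw [h2] at h1
  exact_mod_cast h1

/-- S4696 for the principal block. -/
theorem struct₀ {M : Ideal AlgInt} (hM : IsPModular p M) (P : Sylow p G) (hP : IsCyclic P) {k : ℕ} (hk : 1 ≤ k)
    (hc : Nat.card P = p ^ k) {e : ℕ}
    (he : (Subgroup.centralizer ((P : Subgroup G) : Set G)).relIndex (Subgroup.normalizer ((P : Subgroup G) : Set G)) = e) :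
    e ∣ p - 1 ∧ ∃ X Y : Set (IrrCharacter G), principalBlock M G = X ∪ Y ∧ Disjoint X Y ∧ Nat.card X = e ∧
      Nat.card Y = (p ^ k - 1) / e ∧
      (∀ ψ ∈ Y, ∀ ψ' ∈ Y, ∀ g : G, ¬ p ∣ orderOf g → (ψ : G → ℂ) g = (ψ' : G → ℂ) g) ∧
      ∃ (δ : IrrCharacter G → ℤ) (δ₀ : ℤ), (∀ χ ∈ X, δ χ = 1 ∨ δ χ = -1) ∧ (δ₀ = 1 ∨ δ₀ = -1) ∧
      (∀ ψ ∈ Y, ∀ g : G, ¬ p ∣ orderOf g → (δ₀ : ℂ) * (ψ : G → ℂ) g + ∑ᶠ χ ∈ X, (δ χ : ℂ) * (χ : G → ℂ) g = 0) ∧
      (∀ χ ∈ X, ∀ χ' ∈ X, δ χ * (charDegree (χ : G → ℂ) : ℤ) ≡ δ χ' * (charDegree (χ' : G → ℂ) : ℤ) [ZMOD (p : ℤ) ^ k]) ∧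
      (∀ ψ ∈ Y, ∀ χ ∈ X, (charDegree (ψ : G → ℂ) : ℤ) ≡ -((e : ℤ) * δ₀ * δ χ * (charDegree (χ : G → ℂ) : ℤ)) [ZMOD (p : ℤ) ^ k]) := by
  classical
  have := Fintype.ofFinite G
  have hab : IsMulCommutative P := IsCyclic.isMulCommutative
  set C := Subgroup.centralizer ((P : Subgroup G) : Set G) with hC
  set N := Subgroup.normalizer ((P : Subgroup G) : Set G) with hN
  have hPC : (P : Subgroup G) ≤ C := by
    intro x hx
    rw [hC, Subgroup.mem_centralizer_iff]
    intro y hy
    have h1 := hab.is_comm.comm (⟨y, hy⟩ : P) ⟨x, hx⟩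
    exact congrArg Subtype.val h1
  have hCN : C ≤ N := Subgroup.centralizer_le_normalizer _
  have hB : IsPBlock M (principalBlock M G) := ⟨CCValues.one G, rfl⟩
  have hb : IsPBlock M (principalBlock M C) := ⟨CCValues.one C, rfl⟩
  have hD : IsDefectGroup p M (principalBlock M G) (P : Subgroup G) := (S4652.result p M hM _).2 ⟨P, rfl⟩
  have hdef := S0919.result p M hM (P : Subgroup G) C P.2 hPC le_rfl hCN (principalBlock M C) hb
  have hind := (S0936.result p M hM C (principalBlock M C) hdef).2 rfl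
  have hT : ∀ g ∈ N, ∀ θ ∈ principalBlock M C, ∀ θ' : IrrCharacter C, (∀ h h' : C, (h' : G) = g * h * g⁻¹ →
      (θ' : C → ℂ) h' = (θ : C → ℂ) h) → θ' ∈ principalBlock M C := by
    intro g hg
    intro θ hθ θ' hθθ'
    -- the automorphism of `C`
    have hCn : ∀ x : G, x ∈ C ↔ g * x * g⁻¹ ∈ C := by
      intro x
      have hgn : ∀ y : G, y ∈ (P : Subgroup G) ↔ g * y * g⁻¹ ∈ (P : Subgroup G) := Subgroup.mem_normalizer_iff.1 hg
      constructor
      · intro hx
        rw [hC, Subgroup.mem_centralizer_iff] at hx ⊢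
        intro y hy
        have h3 : g⁻¹ * y * g ∈ (P : Subgroup G) := by
          rw [hgn]
          have : g * (g⁻¹ * y * g) * g⁻¹ = y := by group
          rwa [this]
        have h4 := hx _ h3
        calc y * (g * x * g⁻¹) = g * ((g⁻¹ * y * g) * x) * g⁻¹ := by group
          _ = g * (x * (g⁻¹ * y * g)) * g⁻¹ := by rw [h4]
          _ = g * x * g⁻¹ * y := by group
      · intro hx
        rw [hC, Subgroup.mem_centralizer_iff] at hx ⊢
        intro y hy
        have h4 := hx _ ((hgn y).1 hy)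
        have h5 : g * (y * x) * g⁻¹ = g * (x * y) * g⁻¹ := by
          calc g * (y * x) * g⁻¹ = (g * y * g⁻¹) * (g * x * g⁻¹) := by group
            _ = (g * x * g⁻¹) * (g * y * g⁻¹) := h4
            _ = g * (x * y) * g⁻¹ := by group
        exact mul_left_cancel (mul_right_cancel h5)
    let α : C ≃* C :=
      { toFun := fun x => ⟨g * x * g⁻¹, (hCn x).1 x.2⟩
        invFun := fun x => ⟨g⁻¹ * x * g, by
          rw [hCn]
          have : g * (g⁻¹ * (x : G) * g) * g⁻¹ = x := by group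
          rw [this]; exact x.2⟩
        left_inv := fun x => Subtype.ext (by simp [mul_assoc])
        right_inv := fun x => Subtype.ext (by simp [mul_assoc])
        map_mul' := fun x y => Subtype.ext (by simp [mul_assoc]) }
    have hθα : (fun x => (θ' : C → ℂ) (α x)) = (θ : C → ℂ) := by
      funext x
      exact hθθ' x (α x) rfl
    intro x
    obtain ⟨y, rfl⟩ := α.surjective x
    have h5 := hθ y
    have h6 : centralChar (θ : C → ℂ) y = centralChar (θ' : C → ℂ) (α y) := by
      rw [← hθα]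
      exact Covering.centralChar_comp_equiv α _ _
    have h7 : centralChar (fun _ : C => (1 : ℂ)) y = centralChar (fun _ : C => (1 : ℂ)) (α y) :=
      Covering.centralChar_comp_equiv α (fun _ : C => (1 : ℂ)) _
    rw [h6, h7] at h5
    exact h5
  obtain ⟨h1, -, h2⟩ := S4696.result p M hM (P : Subgroup G) hP k hk hc (principalBlock M G) hB hD
    (principalBlock M C) hind N (fun g => ⟨fun hg => ⟨hg, hT g hg⟩, fun hg => hg.1⟩) e he
  exact ⟨h1, h2⟩

/-- a linear character trivial on the `p`-regular elements gives a normal subgroup of index `p` -/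
theorem exists_index (f : G →* ℂˣ) (hf : f ≠ 1) (h : ∀ g : G, ¬ p ∣ orderOf g → f g = 1) :
    ∃ N : Subgroup G, N.Normal ∧ N.index = p := by
  classical
  have hpp : p.Prime := hp.out
  -- `f ^ (p ^ a) = 1`
  have h1 : f ^ (p ^ (Nat.card G).factorization p) = 1 := by
    ext g
    rw [MonoidHom.pow_apply, ← map_pow, MonoidHom.one_apply]
    congr 1
    apply h
    intro hd
    have h2 : orderOf g ∣ Nat.card G := orderOf_dvd_natCard g
    set a := (Nat.card G).factorization p with ha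
    have h3 : orderOf (g ^ p ^ a) = orderOf g / Nat.gcd (orderOf g) (p ^ a) := orderOf_pow g
    rw [h3] at hd
    have hpos : orderOf g ≠ 0 := (orderOf_pos g).ne'
    have hord : (orderOf g).factorization p ≤ a := (Nat.factorization_le_iff_dvd hpos Nat.card_pos.ne').2 h2 p
    have h4 : p ^ ((orderOf g).factorization p) ∣ Nat.gcd (orderOf g) (p ^ a) :=
      Nat.dvd_gcd (Nat.ordProj_dvd _ _) (pow_dvd_pow p hord)
    have h5 : p * p ^ ((orderOf g).factorization p) ∣ orderOf g := by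
      have h6 : Nat.gcd (orderOf g) (p ^ a) ∣ orderOf g := Nat.gcd_dvd_left _ _
      calc p * p ^ ((orderOf g).factorization p) ∣ (orderOf g / Nat.gcd (orderOf g) (p ^ a)) * Nat.gcd (orderOf g) (p ^ a) :=
            mul_dvd_mul hd h4
        _ = orderOf g := Nat.div_mul_cancel h6
    rw [← pow_succ'] at h5
    have h7 := (hpp.pow_dvd_iff_le_factorization hpos).1 h5
    omega
  have key : ∀ n : ℕ, f ^ n = 1 ↔ orderOf f ∣ n := fun n => (orderOf_dvd_iff_pow_eq_one (x := f) (n := n)).symm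
  obtain ⟨j, hj, hj'⟩ := (Nat.dvd_prime_pow hpp).1 ((key _).1 h1)
  have hj0 : j ≠ 0 := by
    rintro rfl
    rw [pow_zero, orderOf_eq_one_iff] at hj'
    exact hf hj'
  obtain ⟨i, rfl⟩ := Nat.exists_eq_succ_of_ne_zero hj0
  set f' := f ^ p ^ i with hf'
  have h2 : f' ≠ 1 := by
    intro h3
    have h4 := (key _).1 h3
    rw [hj'] at h4
    exact absurd (Nat.pow_dvd_pow_iff_le_right hpp.one_lt |>.1 h4) (by omega)
  have h3 : f' ^ p = 1 := by
    have h4 : f ^ p ^ (i + 1) = 1 := (key _).2 (by rw [hj'])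
    ext g
    have h5 : f g ^ p ^ (i + 1) = 1 := by
      have := congrArg (fun F : G →* ℂˣ => F g) h4
      simpa [MonoidHom.pow_apply] using this
    rw [hf', MonoidHom.pow_apply, MonoidHom.pow_apply, ← pow_mul, ← pow_succ, h5]
    rfl
  refine ⟨f'.ker, inferInstance, ?_⟩
  have : Finite f'.range := Set.finite_range f'
  rw [Subgroup.index_ker]
  have hcyc : IsCyclic f'.range := inferInstance
  rw [← IsCyclic.exponent_eq_card]
  have h4 : Monoid.exponent f'.range ∣ p := by
    apply Monoid.exponent_dvd_of_forall_pow_eq_one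
    rintro ⟨_, g, rfl⟩
    apply Subtype.ext
    change f' g ^ p = 1
    have := congrArg (fun F : G →* ℂˣ => F g) h3
    simpa [MonoidHom.pow_apply] using this
  rcases (Nat.dvd_prime hpp).1 h4 with h5 | h5
  · exfalso
    apply h2
    ext g
    have h6 := Monoid.pow_exponent_eq_one (⟨f' g, g, rfl⟩ : f'.range)
    rw [h5, pow_one] at h6
    have h7 : f' g = 1 := congrArg Subtype.val h6
    rw [h7]; rfl
  · exact h5

/-- S4696 for the principal block, with the trivial character nonexceptional. -/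
theorem struct {M : Ideal AlgInt} (hM : IsPModular p M) (P : Sylow p G) (hP : IsCyclic P) {k : ℕ} (hk : 1 ≤ k)
    (hc : Nat.card P = p ^ k) {e : ℕ}
    (he : (Subgroup.centralizer ((P : Subgroup G) : Set G)).relIndex (Subgroup.normalizer ((P : Subgroup G) : Set G)) = e)
    (hN : ∀ N : Subgroup G, N.Normal → N.index ≠ p) :
    e ∣ p - 1 ∧ ∃ (X Y : Finset (IrrCharacter G)) (δ : IrrCharacter G → ℤ) (δ₀ : ℤ),
      (∀ χ : IrrCharacter G, χ ∈ principalBlock M G ↔ χ ∈ X ∨ χ ∈ Y) ∧ Disjoint X Y ∧ X.card = e ∧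
      Y.card = (p ^ k - 1) / e ∧ CCValues.one G ∈ X ∧ δ (CCValues.one G) = 1 ∧
      (∀ χ ∈ X, δ χ = 1 ∨ δ χ = -1) ∧ (δ₀ = 1 ∨ δ₀ = -1) ∧
      (∀ χ ∈ X, (p : ℤ) ^ k ∣ δ χ * (charDegree (χ : G → ℂ) : ℤ) - 1) ∧
      (∀ ψ ∈ Y, (p : ℤ) ^ k ∣ (charDegree (ψ : G → ℂ) : ℤ) + e * δ₀) ∧
      (∀ ψ ∈ Y, δ₀ * (charDegree (ψ : G → ℂ) : ℤ) + ∑ χ ∈ X, δ χ * (charDegree (χ : G → ℂ) : ℤ) = 0) := by
  classical
  have hpp : p.Prime := hp.out
  have : Fintype (IrrCharacter G) := @Fintype.ofFinite _ Core.finite_irr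
  obtain ⟨hep, X, Y, hXY, hdis, hX, hY, hag, δ, δ₀, hδ, hδ₀, hrel, hc1, hc2⟩ := struct₀ hM P hP hk hc he
  have hone : CCValues.one G ∈ principalBlock M G := by
    intro g
    change MemLocalIdeal M (centralChar (fun _ : G => (1 : ℂ)) g - centralChar (fun _ : G => (1 : ℂ)) g)
    rw [sub_self]
    exact Induced.memLocalIdeal_zero hM.2.1.isPrime
  -- finsets
  set X' : Finset (IrrCharacter G) := X.toFinite.toFinset with hX'
  set Y' : Finset (IrrCharacter G) := Y.toFinite.toFinset with hY'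
  have hmX : ∀ χ, χ ∈ X' ↔ χ ∈ X := fun χ => Set.Finite.mem_toFinset _
  have hmY : ∀ χ, χ ∈ Y' ↔ χ ∈ Y := fun χ => Set.Finite.mem_toFinset _
  have hcX : X'.card = e := by
    rw [← hX, Nat.card_coe_set_eq, Set.ncard_eq_toFinset_card X X.toFinite]
  have hcY : Y'.card = (p ^ k - 1) / e := by
    rw [← hY, Nat.card_coe_set_eq, Set.ncard_eq_toFinset_card Y Y.toFinite]
  have hd' : Disjoint X' Y' := by
    rw [Finset.disjoint_left]
    intro χ h1 h2
    exact Set.disjoint_left.1 hdis ((hmX χ).1 h1) ((hmY χ).1 h2)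
  have hsum : ∀ ψ ∈ Y', δ₀ * (charDegree (ψ : G → ℂ) : ℤ) + ∑ χ ∈ X', δ χ * (charDegree (χ : G → ℂ) : ℤ) = 0 := by
    intro ψ hψ
    have h1 := hrel ψ ((hmY ψ).1 hψ) 1 (by rw [orderOf_one]; exact hpp.one_lt.ne' ∘ Nat.dvd_one.1)
    rw [finsum_mem_eq_finite_toFinset_sum _ X.toFinite, ← coe_deg] at h1
    have h2 : ∀ χ ∈ X', (δ χ : ℂ) * (χ : G → ℂ) 1 = ((δ χ * (charDegree (χ : G → ℂ) : ℤ) : ℤ) : ℂ) := by
      intro χ _
      rw [← coe_deg]; push_cast; ring
    rw [Finset.sum_congr rfl h2] at h1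
    exact_mod_cast h1
  have hdone : (charDegree (CCValues.one G : G → ℂ) : ℤ) = 1 := by rw [deg_one]; rfl
  refine ⟨hep, ?_⟩
  by_cases h1X : CCValues.one G ∈ X
  · -- scale by `δ 1`
    have hs := hδ _ h1X
    set s := δ (CCValues.one G) with hsdef
    have hss : s * s = 1 := by rcases hs with h | h <;> rw [h] <;> norm_num
    refine ⟨X', Y', fun χ => s * δ χ, s * δ₀, ?_, hd', hcX, hcY, (hmX _).2 h1X, hss, ?_, ?_, ?_, ?_, ?_⟩
    · intro χ
      rw [hXY, Set.mem_union, hmX, hmY]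
    · intro χ hχ
      show s * δ χ = 1 ∨ s * δ χ = -1
      rcases hs with h | h <;> rcases hδ χ ((hmX χ).1 hχ) with h' | h' <;> rw [h, h'] <;> norm_num
    · rcases hs with h | h <;> rcases hδ₀ with h' | h' <;> rw [h, h'] <;> norm_num
    · intro χ hχ
      have h2 := (hc1 _ h1X χ ((hmX χ).1 hχ)).dvd
      rw [hdone, mul_one] at h2
      have h3 : s * δ χ * (charDegree (χ : G → ℂ) : ℤ) - 1 = s * (δ χ * (charDegree (χ : G → ℂ) : ℤ) - s) := by
        rw [mul_sub, hss]; ring
      rw [h3]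
      exact Dvd.dvd.mul_left h2 _
    · intro ψ hψ
      have h2 := (hc2 ψ ((hmY ψ).1 hψ) _ h1X).symm.dvd
      rw [hdone, mul_one] at h2
      have h3 : (charDegree (ψ : G → ℂ) : ℤ) + e * (s * δ₀) = (charDegree (ψ : G → ℂ) : ℤ) - -(e * δ₀ * s) := by ring
      rw [h3]
      exact h2
    · intro ψ hψ
      have h2 := hsum ψ hψ
      have h3 : s * δ₀ * (charDegree (ψ : G → ℂ) : ℤ) + ∑ χ ∈ X', s * δ χ * (charDegree (χ : G → ℂ) : ℤ) =
          s * (δ₀ * (charDegree (ψ : G → ℂ) : ℤ) + ∑ χ ∈ X', δ χ * (charDegree (χ : G → ℂ) : ℤ)) := by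
        rw [mul_add, Finset.mul_sum]
        congr 1
        · ring
        · exact Finset.sum_congr rfl fun χ _ => by ring
      rw [h3, h2, mul_zero]
  · have h1Y : CCValues.one G ∈ Y := by
      rw [hXY] at hone
      exact hone.resolve_left h1X
    -- `Y = {1}`
    have hYone : ∀ ψ ∈ Y, ψ = CCValues.one G := by
      intro ψ hψ
      have h2 := hag ψ hψ _ h1Y
      have h3 : (ψ : G → ℂ) 1 = 1 := h2 1 (by rw [orderOf_one]; exact hpp.one_lt.ne' ∘ Nat.dvd_one.1)
      obtain ⟨f, hf⟩ := Linear.exists_hom_of_isIrrCharacter ψ.2 h3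
      by_cases hf1 : f = 1
      · apply Subtype.ext
        rw [hf, hf1]
        funext g
        simp only [MonoidHom.one_apply, Units.val_one]
        rfl
      · exfalso
        obtain ⟨N, hNn, hNi⟩ := exists_index (p := p) f hf1 fun g hg => by
          have h4 := h2 g hg
          rw [hf] at h4
          have h5 : ((f g : ℂˣ) : ℂ) = 1 := h4
          exact Units.ext h5
        exact hN N hNn hNi
    have hY1 : Y' = {CCValues.one G} := by
      ext ψ
      rw [hmY, Finset.mem_singleton]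
      exact ⟨hYone ψ, fun h => h ▸ h1Y⟩
    have hcard1 : (p ^ k - 1) / e = 1 := by rw [← hcY, hY1, Finset.card_singleton]
    have he0 : 0 < e := by
      rcases Nat.eq_zero_or_pos e with h | h
      · rw [h, Nat.div_zero] at hcard1; exact absurd hcard1 (by norm_num)
      · exact h
    have hp1 : 0 < p - 1 := Nat.sub_pos_of_lt hpp.one_lt
    have hek : e = p ^ k - 1 := by
      have h2 : e ∣ p ^ k - 1 := dvd_trans hep (by simpa using Nat.sub_dvd_pow_sub_pow p 1 k)
      have h3 := Nat.div_mul_cancel h2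
      rw [hcard1, one_mul] at h3
      exact h3
    have hep1 : e ≤ p - 1 := Nat.le_of_dvd hp1 hep
    have hk1 : k = 1 := by
      by_contra hne
      have h2 : 2 ≤ k := by omega
      have h3 : p ^ 2 ≤ p ^ k := Nat.pow_le_pow_right hpp.pos h2
      have h4 : p < p ^ 2 := by nlinarith [hpp.two_le]
      omega
    subst hk1
    rw [pow_one] at hek
    obtain ⟨χ₀, hχ₀⟩ : X'.Nonempty := by
      rw [← Finset.card_pos, hcX]; exact he0
    have hχ₀X := (hmX χ₀).1 hχ₀
    have hχ₀1 : χ₀ ≠ CCValues.one G := fun h => h1X (h ▸ hχ₀X)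
    have h2 := hsum _ (by rw [hY1]; exact Finset.mem_singleton_self _)
    rw [hdone, mul_one] at h2
    have h00 : δ₀ * δ₀ = 1 := by rcases hδ₀ with h | h <;> rw [h] <;> norm_num
    -- congruence of the members of `X`
    have hcong : ∀ χ ∈ X, (p : ℤ) ∣ δ₀ * δ χ * (charDegree (χ : G → ℂ) : ℤ) - 1 := by
      intro χ hχ
      have h3 := (hc2 _ h1Y χ hχ).dvd
      rw [hdone, pow_one] at h3
      have h4 : ((e : ℕ) : ℤ) = (p : ℤ) - 1 := by
        rw [hek, Nat.cast_sub hpp.one_lt.le]; rfl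
      rw [h4] at h3
      have h5 : δ₀ * δ χ * (charDegree (χ : G → ℂ) : ℤ) - 1 =
          (-(((p : ℤ) - 1) * δ₀ * δ χ * (charDegree (χ : G → ℂ) : ℤ)) - 1) + p * (δ₀ * δ χ * (charDegree (χ : G → ℂ) : ℤ)) := by ring
      rw [h5]
      exact dvd_add h3 (Dvd.intro _ rfl)
    refine ⟨insert (CCValues.one G) (X'.erase χ₀), {χ₀}, fun χ => if χ = CCValues.one G then 1 else δ₀ * δ χ,
      δ₀ * δ χ₀, ?_, ?_, ?_, ?_, Finset.mem_insert_self _ _, if_pos rfl, ?_, ?_, ?_, ?_, ?_⟩
    · intro χ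
      rw [hXY, Set.mem_union, Finset.mem_insert, Finset.mem_erase, Finset.mem_singleton, hmX]
      constructor
      · rintro (h3 | h3)
        · by_cases h4 : χ = χ₀
          · exact Or.inr h4
          · exact Or.inl (Or.inr ⟨h4, h3⟩)
        · exact Or.inl (Or.inl (hYone χ h3))
      · rintro ((h3 | h3) | h3)
        · rw [h3]; exact Or.inr h1Y
        · exact Or.inl h3.2
        · rw [h3]; exact Or.inl hχ₀X
    · rw [Finset.disjoint_singleton_right, Finset.mem_insert, Finset.mem_erase]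
      push Not
      exact ⟨hχ₀1, fun h => absurd rfl h⟩
    · rw [Finset.card_insert_of_notMem, Finset.card_erase_of_mem hχ₀, hcX]
      · omega
      · rw [Finset.mem_erase]
        exact fun h => h1X ((hmX _).1 h.2)
    · rw [Finset.card_singleton, pow_one]
      rw [pow_one] at hcard1
      exact hcard1.symm
    · intro χ hχ
      show (if χ = CCValues.one G then 1 else δ₀ * δ χ) = 1 ∨ (if χ = CCValues.one G then 1 else δ₀ * δ χ) = -1
      by_cases h3 : χ = CCValues.one G
      · left; exact if_pos h3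
      · rw [if_neg h3]
        have h4 := (Finset.mem_insert.1 hχ).resolve_left h3
        rcases hδ₀ with h | h <;> rcases hδ χ ((hmX χ).1 (Finset.mem_of_mem_erase h4)) with h' | h' <;>
          rw [h, h'] <;> norm_num
    · rcases hδ₀ with h | h <;> rcases hδ χ₀ hχ₀X with h' | h' <;> rw [h, h'] <;> norm_num
    · intro χ hχ
      show (p : ℤ) ^ 1 ∣ (if χ = CCValues.one G then 1 else δ₀ * δ χ) * (charDegree (χ : G → ℂ) : ℤ) - 1
      rw [pow_one]
      by_cases h3 : χ = CCValues.one G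
      · rw [if_pos h3, h3, hdone]; simp
      · rw [if_neg h3]
        exact hcong χ ((hmX χ).1 (Finset.mem_of_mem_erase ((Finset.mem_insert.1 hχ).resolve_left h3)))
    · intro ψ hψ
      rw [Finset.mem_singleton] at hψ
      subst hψ
      rw [pow_one]
      have h4 : ((e : ℕ) : ℤ) = (p : ℤ) - 1 := by
        rw [hek, Nat.cast_sub hpp.one_lt.le]; rfl
      have h5 := hcong ψ hχ₀X
      have hss : (δ₀ * δ ψ) * (δ₀ * δ ψ) = 1 := by
        rcases hδ₀ with h | h <;> rcases hδ ψ hχ₀X with h' | h' <;> rw [h, h'] <;> norm_num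
      rw [h4]
      have h6 : (charDegree (ψ : G → ℂ) : ℤ) + ((p : ℤ) - 1) * (δ₀ * δ ψ) =
          (δ₀ * δ ψ) * (δ₀ * δ ψ * (charDegree (ψ : G → ℂ) : ℤ) - 1) + p * (δ₀ * δ ψ) := by
        linear_combination (-(charDegree (ψ : G → ℂ) : ℤ)) * hss
      rw [h6]
      exact dvd_add (Dvd.dvd.mul_left h5 _) (Dvd.intro _ rfl)
    · intro ψ hψ
      rw [Finset.mem_singleton] at hψ
      subst hψ
      show δ₀ * δ ψ * (charDegree (ψ : G → ℂ) : ℤ) + ∑ χ ∈ insert (CCValues.one G) (X'.erase ψ),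
        (if χ = CCValues.one G then 1 else δ₀ * δ χ) * (charDegree (χ : G → ℂ) : ℤ) = 0
      rw [Finset.sum_insert, if_pos rfl, hdone, one_mul]
      · have h3 : ∑ χ ∈ X'.erase ψ, (if χ = CCValues.one G then 1 else δ₀ * δ χ) * (charDegree (χ : G → ℂ) : ℤ) =
            ∑ χ ∈ X'.erase ψ, δ₀ * (δ χ * (charDegree (χ : G → ℂ) : ℤ)) := by
          refine Finset.sum_congr rfl fun χ hχ => ?_
          have h1ne : χ ≠ CCValues.one G := fun h => h1X (h ▸ (hmX _).1 (Finset.mem_of_mem_erase hχ))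
          rw [if_neg h1ne]
          ring
        rw [h3, ← Finset.mul_sum]
        have h4 := Finset.add_sum_erase X' (fun χ => δ χ * (charDegree (χ : G → ℂ) : ℤ)) hχ₀
        have h5 : δ₀ * (δ₀ + ∑ χ ∈ X', δ χ * (charDegree (χ : G → ℂ) : ℤ)) = 0 := by rw [h2, mul_zero]
        rw [← h4, mul_add, h00, mul_add] at h5
        linarith [h5]
      · rw [Finset.mem_erase]
        exact fun h => h1X ((hmX _).1 h.2)

/-- the number of linear characters -/
theorem card_linear [Fintype (IrrCharacter G)] [DecidablePred fun χ : IrrCharacter G => charDegree (χ : G → ℂ) = 1] :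
    (Finset.univ.filter fun χ : IrrCharacter G => charDegree (χ : G → ℂ) = 1).card = (commutator G).index := by
  rw [← Linear.card_hom_eq_index_commutator, Nat.card_congr (Linear.linearEquiv G), Nat.card_eq_fintype_card,
    Fintype.card_subtype]
  congr 1
  ext χ
  rw [Finset.mem_filter, Finset.mem_filter, ← coe_deg χ]
  simp

/-- Counting in the principal block of a group with few character degrees. -/
theorem degs (h2 : p ≠ 2) (P : Sylow p G) (hP : IsCyclic P) {k : ℕ} (hk : 1 ≤ k)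
    (hc : Nat.card P = p ^ k) {e : ℕ}
    (he : (Subgroup.centralizer ((P : Subgroup G) : Set G)).relIndex (Subgroup.normalizer ((P : Subgroup G) : Set G)) = e)
    (hN : ∀ N : Subgroup G, N.Normal → N.index ≠ p) {a b c : ℕ} (hcd : charDegrees G ⊆ {1, a, b, c})
    (ha : a ≠ 1) (hb : b ≠ 1) (hc' : c ≠ 1) (hab : a ≠ b) (hac : a ≠ c) (hbc : b ≠ c) :
    ∃ (n₁ na nb nc : ℕ) (sa sb sc s : ℤ) (f : ℕ), 1 ≤ n₁ ∧ n₁ ≤ (commutator G).index ∧ n₁ + na + nb + nc = e ∧
      (sa = 1 ∨ sa = -1) ∧ (sb = 1 ∨ sb = -1) ∧ (sc = 1 ∨ sc = -1) ∧ (s = 1 ∨ s = -1) ∧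
      (na ≠ 0 → (p : ℤ) ^ k ∣ sa * a - 1) ∧ (nb ≠ 0 → (p : ℤ) ^ k ∣ sb * b - 1) ∧
      (nc ≠ 0 → (p : ℤ) ^ k ∣ sc * c - 1) ∧ (f = 1 ∨ f = a ∨ f = b ∨ f = c) ∧ (p : ℤ) ^ k ∣ f + e * s ∧
      n₁ + sa * na * a + sb * nb * b + sc * nc * c + s * f = 0 := by
  classical
  have hpp : p.Prime := hp.out
  have : Fintype (IrrCharacter G) := @Fintype.ofFinite _ Core.finite_irr
  obtain ⟨M, hM⟩ := ExistsModular.exists_isPModular hpp
  obtain ⟨hep, X, Y, δ, δ₀, hB, hd, hX, hY, h1X, hδ1, hδ, hδ₀, hcX, hcY, hsum⟩ := struct hM P hP hk hc he hN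
  have hpk : (2 : ℤ) < (p : ℤ) ^ k := by
    have h3 : 3 ≤ p := by
      rcases hpp.eq_two_or_odd' with h | h
      · exact absurd h h2
      · rcases h with ⟨m, hm⟩; have := hpp.two_le; omega
    have h4 : p ^ 1 ≤ p ^ k := Nat.pow_le_pow_right hpp.pos hk
    rw [pow_one] at h4
    have h5 : 2 < p ^ k := by omega
    exact_mod_cast h5
  -- the sign depends only on the degree
  have hsgn : ∀ χ ∈ X, ∀ χ' ∈ X, charDegree (χ : G → ℂ) = charDegree (χ' : G → ℂ) → δ χ = δ χ' := by
    intro χ hχ χ' hχ' hdeg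
    have h3 := hcX χ hχ
    have h4 := hcX χ' hχ'
    rw [← hdeg] at h4
    rcases hδ χ hχ with h | h <;> rcases hδ χ' hχ' with h' | h' <;> rw [h, h'] <;> exfalso
    · rw [h] at h3; rw [h'] at h4
      have h5 := dvd_add h3 h4
      have h6 : 1 * (charDegree (χ : G → ℂ) : ℤ) - 1 + (-1 * (charDegree (χ : G → ℂ) : ℤ) - 1) = -2 := by ring
      rw [h6, dvd_neg] at h5
      exact absurd (Int.le_of_dvd (by norm_num) h5) (by omega)
    · rw [h] at h3; rw [h'] at h4
      have h5 := dvd_add h3 h4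
      have h6 : -1 * (charDegree (χ : G → ℂ) : ℤ) - 1 + (1 * (charDegree (χ : G → ℂ) : ℤ) - 1) = -2 := by ring
      rw [h6, dvd_neg] at h5
      exact absurd (Int.le_of_dvd (by norm_num) h5) (by omega)
  have hmem : ∀ χ : IrrCharacter G, charDegree (χ : G → ℂ) = 1 ∨ charDegree (χ : G → ℂ) = a ∨
      charDegree (χ : G → ℂ) = b ∨ charDegree (χ : G → ℂ) = c := by
    intro χ
    have h3 := hcd ⟨χ, rfl⟩
    simpa using h3
  -- the sum over a degree
  let D : ℕ → Finset (IrrCharacter G) := fun d => X.filter fun χ => charDegree (χ : G → ℂ) = d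
  have hS : ∀ d : ℕ, ∃ s : ℤ, (s = 1 ∨ s = -1) ∧ (∀ χ ∈ D d, δ χ = s) := by
    intro d
    by_cases hne : (D d).Nonempty
    · obtain ⟨χ, hχ⟩ := hne
      have h3 := Finset.mem_filter.1 hχ
      refine ⟨δ χ, hδ χ h3.1, fun χ' hχ' => ?_⟩
      have h4 := Finset.mem_filter.1 hχ'
      exact hsgn _ h4.1 _ h3.1 (by rw [h4.2, h3.2])
    · rw [Finset.not_nonempty_iff_eq_empty] at hne
      exact ⟨1, Or.inl rfl, by rw [hne]; simp⟩
  have hDsum : ∀ d : ℕ, ∀ s : ℤ, (∀ χ ∈ D d, δ χ = s) →
      ∑ χ ∈ D d, δ χ * (charDegree (χ : G → ℂ) : ℤ) = s * (D d).card * d := by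
    intro d s hs
    have h3 : ∀ χ ∈ D d, δ χ * (charDegree (χ : G → ℂ) : ℤ) = s * d := by
      intro χ hχ
      rw [hs χ hχ, (Finset.mem_filter.1 hχ).2]
    rw [Finset.sum_congr rfl h3, Finset.sum_const, nsmul_eq_mul]; ring
  have hXd : X = D 1 ∪ (D a ∪ (D b ∪ D c)) := by
    ext χ
    simp only [D, Finset.mem_union, Finset.mem_filter]
    constructor
    · intro h3
      rcases hmem χ with h | h | h | h
      · exact Or.inl ⟨h3, h⟩
      · exact Or.inr (Or.inl ⟨h3, h⟩)
      · exact Or.inr (Or.inr (Or.inl ⟨h3, h⟩))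
      · exact Or.inr (Or.inr (Or.inr ⟨h3, h⟩))
    · rintro (h | h | h | h) <;> exact h.1
  have hdisj : ∀ d d' : ℕ, d ≠ d' → Disjoint (D d) (D d') := by
    intro d d' hdd
    rw [Finset.disjoint_left]
    intro χ h3 h4
    exact hdd ((Finset.mem_filter.1 h3).2.symm.trans (Finset.mem_filter.1 h4).2)
  have hdj1 : Disjoint (D b) (D c) := hdisj _ _ hbc
  have hdj2 : Disjoint (D a) (D b ∪ D c) := Finset.disjoint_union_right.2 ⟨hdisj _ _ hab, hdisj _ _ hac⟩
  have hdj3 : Disjoint (D 1) (D a ∪ (D b ∪ D c)) := Finset.disjoint_union_right.2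
    ⟨hdisj _ _ ha.symm, Finset.disjoint_union_right.2 ⟨hdisj _ _ hb.symm, hdisj _ _ hc'.symm⟩⟩
  obtain ⟨sa, hsa, hsa'⟩ := hS a
  obtain ⟨sb, hsb, hsb'⟩ := hS b
  obtain ⟨sc, hsc, hsc'⟩ := hS c
  have hs1 : ∀ χ ∈ D 1, δ χ = 1 := by
    intro χ hχ
    have h3 := Finset.mem_filter.1 hχ
    rw [← hδ1]
    exact hsgn _ h3.1 _ h1X (by rw [h3.2, deg_one])
  have hYne : Y.Nonempty := by
    rw [← Finset.card_pos, hY]
    apply Nat.div_pos
    · have hp1 : 0 < p - 1 := Nat.sub_pos_of_lt hpp.one_lt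
      have h3 : e ≤ p - 1 := Nat.le_of_dvd hp1 hep
      have h4 : p ^ 1 ≤ p ^ k := Nat.pow_le_pow_right hpp.pos hk
      rw [pow_one] at h4
      omega
    · rw [← hX]; exact Finset.card_pos.2 ⟨_, h1X⟩
  obtain ⟨ψ, hψ⟩ := hYne
  have hcongr : ∀ d : ℕ, ∀ s : ℤ, (∀ χ ∈ D d, δ χ = s) → (D d).card ≠ 0 → (p : ℤ) ^ k ∣ s * d - 1 := by
    intro d s hs hne
    obtain ⟨χ, hχ⟩ := Finset.card_ne_zero.1 hne
    have h3 := Finset.mem_filter.1 hχ
    have h4 := hcX χ h3.1
    rwa [hs χ hχ, h3.2] at h4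
  refine ⟨(D 1).card, (D a).card, (D b).card, (D c).card, sa, sb, sc, δ₀, charDegree (ψ : G → ℂ), ?_, ?_, ?_, hsa, hsb,
    hsc, hδ₀, hcongr a sa hsa', hcongr b sb hsb', hcongr c sc hsc', hmem ψ, hcY ψ hψ, ?_⟩
  · exact Finset.card_pos.2 ⟨_, Finset.mem_filter.2 ⟨h1X, deg_one⟩⟩
  · rw [← card_linear]
    refine Finset.card_le_card fun χ hχ => ?_
    exact Finset.mem_filter.2 ⟨Finset.mem_univ _, (Finset.mem_filter.1 hχ).2⟩
  · have h3 : X.card = (D 1).card + ((D a).card + ((D b).card + (D c).card)) := by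
      conv_lhs => rw [hXd]
      rw [Finset.card_union_of_disjoint hdj3, Finset.card_union_of_disjoint hdj2, Finset.card_union_of_disjoint hdj1]
    omega
  · have h3 := hsum ψ hψ
    have h4 : ∑ χ ∈ X, δ χ * (charDegree (χ : G → ℂ) : ℤ) = ∑ χ ∈ D 1 ∪ (D a ∪ (D b ∪ D c)), δ χ * (charDegree (χ : G → ℂ) : ℤ) := by
      rw [← hXd]
    rw [h4, Finset.sum_union hdj3, Finset.sum_union hdj2, Finset.sum_union hdj1, hDsum 1 1 hs1, hDsum a sa hsa',
      hDsum b sb hsb', hDsum c sc hsc'] at h3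
    push_cast at h3
    linarith [h3]

/-- The class number of a group with a self-centralizing normal subgroup of prime order. -/
theorem card_conj_le {N : Type*} [Group N] [Finite N] (Q : Subgroup N) {q : ℕ} (hq : q.Prime)
    (hQ : Nat.card Q = q) (hC : Subgroup.centralizer (Q : Set N) = Q) :
    Nat.card (ConjClasses N) * Q.index ≤ Q.index * Q.index + (q - 1) := by
  classical
  have := Fintype.ofFinite N
  have hgen : ∀ g : N, g ∈ Q → g ≠ 1 → ∀ h : N, Commute g h → h ∈ Q := by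
    intro g hg hg1 h hgh
    have h1 : Subgroup.zpowers g = Q := by
      apply Subgroup.eq_of_le_of_card_ge (Subgroup.zpowers_le.2 hg)
      rw [hQ, Nat.card_zpowers]
      have h2 : orderOf g ∣ q := by
        have h3 := orderOf_dvd_natCard (⟨g, hg⟩ : Q)
        rwa [Subgroup.orderOf_mk, hQ] at h3
      rcases (Nat.dvd_prime hq).1 h2 with h3 | h3
      · exact absurd (orderOf_eq_one_iff.1 h3) hg1
      · exact h3.ge
    rw [← hC, Subgroup.mem_centralizer_iff]
    intro y hy
    have hy' : y ∈ Q := hy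
    rw [← h1] at hy'
    obtain ⟨n, rfl⟩ := Subgroup.mem_zpowers_iff.1 hy'
    exact (hgh.zpow_left n).eq
  have hcardN : Nat.card N = q * Q.index := by
    rw [← hQ]; exact (Subgroup.card_mul_index Q).symm
  have hidx : 0 < Q.index := Nat.pos_of_ne_zero Subgroup.index_ne_zero_of_finite
  -- the number of commuting pairs
  have hbd : ∀ g : N, Nat.card {h : N // Commute g h} ≤
      (if g = 1 then q * Q.index else if g ∈ Q then q else Q.index) := by
    intro g
    by_cases hg1 : g = 1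
    · rw [if_pos hg1, ← hcardN]
      exact Nat.card_le_card_of_injective Subtype.val Subtype.val_injective
    · rw [if_neg hg1]
      by_cases hg : g ∈ Q
      · rw [if_pos hg]
        conv_rhs => rw [← hQ]
        exact Nat.card_le_card_of_injective (fun h : {h : N // Commute g h} => (⟨h.1, hgen g hg hg1 h.1 h.2⟩ : Q))
          fun a b hab => Subtype.ext (Subtype.mk.inj hab)
      · rw [if_neg hg, Subgroup.index]
        refine Nat.card_le_card_of_injective (fun h : {h : N // Commute g h} => (QuotientGroup.mk h.1 : N ⧸ Q)) ?_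
        intro a b hab
        have h1 : a.1⁻¹ * b.1 ∈ Q := QuotientGroup.eq.1 hab
        by_contra hne
        have h2 : a.1⁻¹ * b.1 ≠ 1 := fun h => hne (Subtype.ext (inv_mul_eq_one.1 h))
        have h3 : Commute (a.1⁻¹ * b.1) g := (a.2.inv_right.mul_right b.2).symm
        exact hg (hgen _ h1 h2 g h3)
  have h1 := card_comm_eq_card_conjClasses_mul_card N
  rw [Nat.card_congr (Equiv.subtypeProdEquivSigmaSubtype fun g h : N => Commute g h), Nat.card_sigma] at h1
  have h2 := Finset.sum_le_sum fun g (_ : g ∈ (Finset.univ : Finset N)) => hbd g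
  rw [h1] at h2
  -- evaluate the bound
  have h3 : ∑ g : N, (if g = 1 then q * Q.index else if g ∈ Q then q else Q.index) =
      q * Q.index + (q - 1) * q + (q * Q.index - q) * Q.index := by
    have hQf : (Finset.univ.filter fun g : N => g ∈ Q).card = q := by
      rw [← hQ, Nat.card_eq_fintype_card, Fintype.card_subtype]
    have hQ0 : (Finset.univ.filter fun g : N => ¬ g ∈ Q).card = q * Q.index - q := by
      have h4 := Finset.card_filter_add_card_filter_not (s := (Finset.univ : Finset N)) (fun g : N => g ∈ Q)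
      rw [hQf, Finset.card_univ, ← Nat.card_eq_fintype_card, hcardN] at h4
      omega
    rw [← Finset.sum_filter_add_sum_filter_not Finset.univ (fun g : N => g ∈ Q)]
    have h5 : ∑ g ∈ Finset.univ.filter (fun g : N => ¬ g ∈ Q), (if g = 1 then q * Q.index else if g ∈ Q then q else Q.index) =
        (q * Q.index - q) * Q.index := by
      rw [← hQ0]
      refine Finset.sum_const_nat fun g hg => ?_
      have h6 : ¬ g ∈ Q := (Finset.mem_filter.1 hg).2
      have h7 : g ≠ 1 := fun h => h6 (h ▸ Q.one_mem)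
      rw [if_neg h7, if_neg h6]
    have h7 : ∑ g ∈ Finset.univ.filter (fun g : N => g ∈ Q), (if g = 1 then q * Q.index else if g ∈ Q then q else Q.index) =
        q * Q.index + (q - 1) * q := by
      have hone : (1 : N) ∈ Finset.univ.filter (fun g : N => g ∈ Q) := Finset.mem_filter.2 ⟨Finset.mem_univ _, Q.one_mem⟩
      rw [← Finset.add_sum_erase _ _ hone, if_pos rfl]
      congr 1
      have hce : ((Finset.univ.filter fun g : N => g ∈ Q).erase 1).card = q - 1 := by
        rw [Finset.card_erase_of_mem hone, hQf]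
      rw [← hce]
      refine Finset.sum_const_nat fun g hg => ?_
      obtain ⟨h8, h9⟩ := Finset.mem_erase.1 hg
      rw [if_neg h8, if_pos (Finset.mem_filter.1 h9).2]
    rw [h5, h7]
  rw [h3, hcardN] at h2
  -- divide by `q`
  obtain ⟨i, hi⟩ : ∃ i, Q.index = i + 1 := ⟨Q.index - 1, by omega⟩
  rw [hi] at h2 ⊢
  have h4 : q * (i + 1) - q = q * i := by rw [mul_add, mul_one, Nat.add_sub_cancel]
  rw [h4] at h2
  have hqpos := hq.pos
  have h5 : q * (Nat.card (ConjClasses N) * (i + 1)) ≤ q * ((i + 1) * (i + 1) + (q - 1)) := by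
    calc q * (Nat.card (ConjClasses N) * (i + 1)) = Nat.card (ConjClasses N) * (q * (i + 1)) := by ring
      _ ≤ q * (i + 1) + (q - 1) * q + q * i * (i + 1) := h2
      _ = q * ((i + 1) * (i + 1) + (q - 1)) := by ring
  exact Nat.le_of_mul_le_mul_left h5 hqpos

/-- A self-centralizing Sylow subgroup of order `p` and many element orders. -/
theorem exists_dvd (P : Sylow p G) (hc : Nat.card P = p)
    (hC : Subgroup.centralizer ((P : Subgroup G) : Set G) = P) {e : ℕ}
    (he : (Subgroup.centralizer ((P : Subgroup G) : Set G)).relIndex (Subgroup.normalizer ((P : Subgroup G) : Set G)) = e)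
    (S : Finset ℕ) (hS : ∀ n ∈ S, ∃ g : G, orderOf g = n) (hcard : e + (p - 1) / e < S.card) :
    ∃ d ∈ charDegrees G, p ∣ d := by
  classical
  have hpp : p.Prime := hp.out
  have : Fintype (IrrCharacter G) := @Fintype.ofFinite _ Core.finite_irr
  by_contra hcon
  push Not at hcon
  have hdiv : p ∣ Nat.card G := by
    rw [← hc]; exact Subgroup.card_subgroup_dvd_card (P : Subgroup G)
  have hsq : ¬ p ^ 2 ∣ Nat.card G := by
    intro h
    have h1 := P.card_eq_multiplicity
    rw [hc] at h1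
    have h2 := (hpp.pow_dvd_iff_le_factorization Nat.card_pos.ne').1 h
    have h3 : p ^ 2 ≤ p ^ (Nat.card G).factorization p := Nat.pow_le_pow_right hpp.pos h2
    rw [← h1] at h3
    nlinarith [hpp.two_le]
  have h1 := S4502.result p hdiv hsq P
  have h2 : Nat.card {χ : IrrCharacter G // ¬ p ∣ charDegree (χ : G → ℂ)} = Nat.card (ConjClasses G) := by
    rw [← Core.card_irr]
    exact Nat.card_congr (Equiv.subtypeUnivEquiv fun χ => hcon _ ⟨χ, rfl⟩)
  rw [h2] at h1
  -- the class number of `G` is at least the number of element orders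
  have h3 : S.card ≤ Nat.card (ConjClasses G) := by
    have h4 : ∀ n : S, ∃ c : ConjClasses G, ∃ g : G, ConjClasses.mk g = c ∧ orderOf g = n := by
      rintro ⟨n, hn⟩
      obtain ⟨g, hg⟩ := hS n hn
      exact ⟨_, g, rfl, hg⟩
    choose f hf using h4
    have h5 : Function.Injective f := by
      intro a b hab
      obtain ⟨g, hg, hg'⟩ := hf a
      obtain ⟨h, hh, hh'⟩ := hf b
      rw [← hab, ← hg, ConjClasses.mk_eq_mk_iff_isConj] at hh
      obtain ⟨c, hc⟩ := isConj_iff.1 hh
      apply Subtype.ext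
      rw [← hg', ← hh', ← hc]
      have h6 : orderOf (MulAut.conj c h) = orderOf h := orderOf_injective (MulAut.conj c).toMonoidHom (MulAut.conj c).injective h
      rw [← h6]; rfl
    have h6 := Nat.card_le_card_of_injective f h5
    rwa [Nat.card_eq_fintype_card, Fintype.card_coe] at h6
  -- the class number of the normalizer
  set N := Subgroup.normalizer ((P : Subgroup G) : Set G) with hN
  have hPN : (P : Subgroup G) ≤ N := Subgroup.le_normalizer
  have hcard' : Nat.card ((P : Subgroup G).subgroupOf N) = p := by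
    rw [Nat.card_congr (Subgroup.subgroupOfEquivOfLe hPN).toEquiv]; exact hc
  have hcent : Subgroup.centralizer (((P : Subgroup G).subgroupOf N : Subgroup N) : Set N) = (P : Subgroup G).subgroupOf N := by
    ext x
    rw [Subgroup.mem_centralizer_iff, Subgroup.mem_subgroupOf]
    conv_rhs => rw [← hC]
    rw [Subgroup.mem_centralizer_iff]
    constructor
    · intro h y hy
      exact congrArg Subtype.val (h ⟨y, hPN hy⟩ hy)
    · intro h y hy
      exact Subtype.ext (h y.1 hy)
  have h7 := card_conj_le ((P : Subgroup G).subgroupOf N) hpp hcard' hcent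
  have h8 : ((P : Subgroup G).subgroupOf N).index = e := by
    rw [← he, hC]; rfl
  rw [h8, ← h1] at h7
  have he0 : 0 < e := by
    rw [← h8]
    exact Nat.pos_of_ne_zero Subgroup.index_ne_zero_of_finite
  -- conclude
  have h9 : Nat.card (ConjClasses G) ≤ e + (p - 1) / e := by
    have h10 : e + (p - 1) / e = (e * e + (p - 1)) / e := by
      rw [Nat.add_comm, ← Nat.add_mul_div_left _ _ he0, Nat.add_comm]
    rw [h10, Nat.le_div_iff_mul_le he0]
    exact h7
  omega

end Cfsg.Agent.H638.FD.Blk
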