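import Cfsg.Agent.H672.Over
import Cfsg.Agent.H969.TT.TopAbs
import Mathlib.GroupTheory.Sylow

/-!
# Characters with a vector fixed by a Sylow normalizer (helper638)

`N` normal in `G`, `H ⊔ N = ⊤`, `B = N ∩ H`.
* `charDegree_eq` : `χ(1) = [χ_N, θ] |G : I(θ)| θ(1)`;
* `mem_charDegrees` : `[θ_B, 1] = 1`: `|G : I(θ)| θ(1)` is a character degree of `G`;
* `mem_charDegrees_of_sylow` : the case of the normalizer of a Sylow subgroup of `N`;
* `exists_under_perm` : a nonprincipal constituent of the permutation character on `G / H` lies over some `θ ≠ 1` with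
  `∑ b ∈ B, θ b ≠ 0`.
-/

set_option autoImplicit false
set_option linter.unusedSectionVars false

namespace Cfsg.Agent.H638.FD.Ext

open Cfsg Cfsg.Agent.Characters.Core Cfsg.Agent.H672 Cfsg.Agent.H969.TT.TopAbs MulAction
open scoped ComplexConjugate

universe u

variable {G : Type u} [Group G] [Finite G]

theorem charDegree_eq (N : Subgroup G) [N.Normal] [Fintype N] {χ : G → ℂ} (hχ : IsIrrCharacter G χ)
    {θ : N → ℂ} (hθ : IsIrrCharacter N θ) {e : ℕ} (he : classInner (fun n : N => χ n) θ = e) (he0 : e ≠ 0) :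
    charDegree χ = e * ((inertia N θ).index * charDegree θ) := by
  classical
  letI := Fintype.ofFinite G
  have h' : classInner (fun n : N => χ n) θ ≠ 0 := by rw [he]; exact_mod_cast he0
  have key := CharactersDeep.CliffordSum.restrict_eq_smul_sum N hχ hθ h'
  have key1 := congrFun key 1
  rw [he] at key1
  simp only [Pi.smul_apply, Finset.sum_apply, smul_eq_mul, OneMemClass.coe_one] at key1
  rw [Finset.sum_congr rfl (g := fun _ => θ 1) (by
    intro ψ hψ
    obtain ⟨x, -, rfl⟩ := Finset.mem_image.1 hψ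
    simp), Finset.sum_const, nsmul_eq_mul, ← coe_charDegree hχ, ← coe_charDegree hθ] at key1
  have hcard := CharactersDeep.CliffordSum.card_conj_mul_card N θ (inertia N θ)
    (fun g => mem_inertia)
  have hidx : (Finset.univ.image (fun x : G => θ ∘ (MulAut.conjNormal x : MulAut N))).card =
      (inertia N θ).index := by
    have h2 := (inertia N θ).index_mul_card
    have hpos : 0 < Nat.card (inertia N θ) := Nat.card_pos
    exact Nat.eq_of_mul_eq_mul_right hpos (hcard.trans h2.symm)
  rw [hidx] at key1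
  exact_mod_cast key1

/-- The permutation character of `G / H` restricted to `N`, `N H = G`. -/
theorem card_fixedBy_eq {N H : Subgroup G} [N.Normal] (hNH : H ⊔ N = ⊤) (y : N) :
    Nat.card (fixedBy (G ⧸ H) (y : G)) = Nat.card (fixedBy (N ⧸ H.subgroupOf N) y) := by
  have key : ∀ x x' : N, (QuotientGroup.mk (x : G) : G ⧸ H) = QuotientGroup.mk (x' : G) ↔
      (QuotientGroup.mk x : N ⧸ H.subgroupOf N) = QuotientGroup.mk x' := by
    intro x x'
    rw [QuotientGroup.eq, QuotientGroup.eq, Subgroup.mem_subgroupOf]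
    rfl
  let f : N ⧸ H.subgroupOf N → G ⧸ H := fun q => Quotient.liftOn' q (fun x : N => (QuotientGroup.mk (x : G) : G ⧸ H))
    (fun x x' hxx => (key x x').2 (QuotientGroup.eq.2 (QuotientGroup.leftRel_apply.1 hxx)))
  have hf : ∀ x : N, f (QuotientGroup.mk x) = QuotientGroup.mk (x : G) := fun _ => rfl
  have hinj : Function.Injective f := by
    intro a b hab
    obtain ⟨x, rfl⟩ := QuotientGroup.mk_surjective a
    obtain ⟨x', rfl⟩ := QuotientGroup.mk_surjective b
    exact (key x x').1 hab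
  have hsurj : Function.Surjective f := by
    intro a
    obtain ⟨g, rfl⟩ := QuotientGroup.mk_surjective a
    have hg : g ∈ ((N ⊔ H : Subgroup G) : Set G) := by
      rw [sup_comm, hNH]; exact Subgroup.mem_top g
    rw [Subgroup.normal_mul] at hg
    obtain ⟨x, hx, z, hz, rfl⟩ := Set.mem_mul.1 hg
    refine ⟨QuotientGroup.mk ⟨x, hx⟩, ?_⟩
    rw [hf, QuotientGroup.eq]
    have : x⁻¹ * (x * z) = z := by group
    change x⁻¹ * (x * z) ∈ H
    rw [this]; exact hz
  have hsm : ∀ q : N ⧸ H.subgroupOf N, f (y • q) = (y : G) • f q := by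
    intro q
    obtain ⟨x, rfl⟩ := QuotientGroup.mk_surjective q
    rfl
  refine (Nat.card_congr (Equiv.ofBijective (fun q : fixedBy (N ⧸ H.subgroupOf N) y =>
    (⟨f q.1, by rw [mem_fixedBy, ← hsm, q.2]⟩ : fixedBy (G ⧸ H) (y : G))) ⟨?_, ?_⟩)).symm
  · intro a b hab
    exact Subtype.ext (hinj (congrArg Subtype.val hab))
  · rintro ⟨a, ha⟩
    obtain ⟨q, rfl⟩ := hsurj a
    refine ⟨⟨q, ?_⟩, rfl⟩
    rw [mem_fixedBy]
    apply hinj
    rw [hsm]; exact ha

/-- Frobenius reciprocity for the restriction of the permutation character on `G / H` to `N`. -/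
theorem inner_perm {N H : Subgroup G} [N.Normal] [Fintype N] (hNH : H ⊔ N = ⊤) [Fintype (H.subgroupOf N)]
    {θ : N → ℂ} (hcl : IsClassFunction N θ) :
    classInner (fun y : N => (Nat.card (fixedBy (G ⧸ H) (y : G)) : ℂ)) θ =
      (Nat.card (H.subgroupOf N) : ℂ)⁻¹ * conj (∑ b : H.subgroupOf N, θ b) := by
  classical
  have h1 := frob (H.subgroupOf N) hcl
  have h2 : classInner (fun y : N => (Nat.card (fixedBy (G ⧸ H) (y : G)) : ℂ)) θ =
      (Nat.card N : ℂ)⁻¹ * conj (∑ y : N, θ y * (Nat.card (fixedBy (N ⧸ H.subgroupOf N) y) : ℂ)) := by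
    rw [classInner_def, map_sum]
    congr 1
    refine Finset.sum_congr rfl fun y _ => ?_
    rw [card_fixedBy_eq hNH, map_mul, Complex.conj_natCast, mul_comm]
  rw [h2, h1, map_mul, Complex.conj_natCast, ← mul_assoc]
  congr 1
  have h3 : (Nat.card N : ℂ) = (H.subgroupOf N).index * (Nat.card (H.subgroupOf N) : ℂ) := by
    rw [← (H.subgroupOf N).index_mul_card]; push_cast; ring
  have h4 : ((H.subgroupOf N).index : ℂ) ≠ 0 := Nat.cast_ne_zero.2 Subgroup.index_ne_zero_of_finite
  have h5 : (Nat.card (H.subgroupOf N) : ℂ) ≠ 0 := card_ne_zero_complex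
  rw [h3]
  field_simp

/-- the decomposition of the permutation character on `G / H` -/
theorem exists_decomp (H : Subgroup G) [Fintype G] [Fintype (IrrCharacter G)] :
    ∃ a : IrrCharacter G → ℕ, (fun g : G => (Nat.card (fixedBy (G ⧸ H) g) : ℂ)) = ∑ χ, a χ • (χ : G → ℂ) ∧
      ∀ χ : IrrCharacter G, classInner (fun g : G => (Nat.card (fixedBy (G ⧸ H) g) : ℂ)) (χ : G → ℂ) = a χ := by
  have : Fintype (G ⧸ H) := Fintype.ofFinite _
  obtain ⟨a, ha⟩ := exists_nat_comb (isCharacter_perm (Y := G) (Ω := G ⧸ H))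
  refine ⟨a, ha, fun χ => ?_⟩
  rw [ha]
  exact classInner_sum_nsmul_irr a χ

/-- restriction to `N` -/
theorem inner_restrict (N H : Subgroup G) [Fintype N] [Fintype (IrrCharacter G)] {a : IrrCharacter G → ℕ}
    (ha : (fun g : G => (Nat.card (fixedBy (G ⧸ H) g) : ℂ)) = ∑ χ, a χ • (χ : G → ℂ)) (θ : N → ℂ) :
    classInner (fun y : N => (Nat.card (fixedBy (G ⧸ H) (y : G)) : ℂ)) θ =
      ∑ χ, (a χ : ℂ) * classInner (fun y : N => (χ : G → ℂ) y) θ := by
  have h1 : (fun y : N => (Nat.card (fixedBy (G ⧸ H) (y : G)) : ℂ)) =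
      fun y : N => ∑ χ : IrrCharacter G, (a χ : ℂ) * (χ : G → ℂ) y := by
    funext y
    have h2 := congrFun ha (y : G)
    simp only [Finset.sum_apply, Pi.smul_apply, nsmul_eq_mul] at h2
    exact h2
  rw [h1]
  simp only [classInner_def]
  simp_rw [Finset.sum_mul, Finset.mul_sum]
  rw [Finset.sum_comm]
  refine Finset.sum_congr rfl fun χ _ => Finset.sum_congr rfl fun y _ => ?_
  ring

theorem mem_charDegrees {N H : Subgroup G} [N.Normal] (hNH : H ⊔ N = ⊤) [Fintype (H.subgroupOf N)]
    {θ : N → ℂ} (hθ : IsIrrCharacter N θ) (h1 : ∑ b : H.subgroupOf N, θ b = (Nat.card (H.subgroupOf N) : ℂ)) :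
    (inertia N θ).index * charDegree θ ∈ charDegrees G := by
  classical
  letI := Fintype.ofFinite N
  letI := Fintype.ofFinite G
  have : Fintype (IrrCharacter G) := @Fintype.ofFinite _ finite_irr
  obtain ⟨a, ha, ha'⟩ := exists_decomp H
  have h2 := inner_restrict N H ha θ
  have h5 : (Nat.card (H.subgroupOf N) : ℂ) ≠ 0 := card_ne_zero_complex
  rw [inner_perm hNH (isIrr_isClassFunction hθ), h1, Complex.conj_natCast, inv_mul_cancel₀ h5] at h2
  have hex : ∀ χ : IrrCharacter G, ∃ k : ℕ, classInner (fun y : N => (χ : G → ℂ) y) θ = k := fun χ =>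
    classInner_isNat (isCharacter_comp N.subtype (isIrr_isCharacter χ.2)) (isIrr_isCharacter hθ)
  choose k hk using hex
  have h3 : ∑ χ, a χ * k χ = 1 := by
    have h4 : ((∑ χ, a χ * k χ : ℕ) : ℂ) = 1 := by
      rw [h2]; push_cast
      exact Finset.sum_congr rfl fun χ _ => by rw [hk]
    exact_mod_cast h4
  obtain ⟨χ, -, hχ⟩ : ∃ χ ∈ (Finset.univ : Finset (IrrCharacter G)), a χ * k χ ≠ 0 := by
    apply Finset.exists_ne_zero_of_sum_ne_zero
    rw [h3]; norm_num
  have h4 : a χ * k χ ≤ 1 := by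
    rw [← h3]
    exact Finset.single_le_sum (f := fun χ => a χ * k χ) (fun _ _ => Nat.zero_le _) (Finset.mem_univ χ)
  have h6 : k χ = 1 := by
    have h7 : a χ * k χ = 1 := by omega
    exact Nat.eq_one_of_mul_eq_one_left h7
  refine ⟨χ, ?_⟩
  rw [charDegree_eq N χ.2 hθ (e := 1) (by rw [hk, h6]) one_ne_zero, one_mul]

/-- **Extension lemma.** -/
theorem mem_charDegrees_of_sylow {p : ℕ} [Fact p.Prime] (N : Subgroup G) [N.Normal] (P : Sylow p N)
    {θ : N → ℂ} (hθ : IsIrrCharacter N θ)
    (h1 : ∑ᶠ b : ↥(Subgroup.normalizer ((P : Subgroup N) : Set N)), θ b =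
      (Nat.card ↥(Subgroup.normalizer ((P : Subgroup N) : Set N)) : ℂ)) :
    (inertia N θ).index * charDegree θ ∈ charDegrees G := by
  classical
  set H := Subgroup.normalizer (((P : Subgroup N).map N.subtype : Subgroup G) : Set G) with hH
  have hsup : H ⊔ N = ⊤ := Sylow.normalizer_sup_eq_top P
  have hB : H.subgroupOf N = Subgroup.normalizer ((P : Subgroup N) : Set N) := by
    ext x
    rw [Subgroup.mem_subgroupOf, hH, Subgroup.mem_normalizer_iff, Subgroup.mem_normalizer_iff]
    have hm : ∀ y : N, (y : G) ∈ (P : Subgroup N).map N.subtype ↔ y ∈ (P : Subgroup N) := by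
      intro y
      constructor
      · rintro ⟨z, hz, e⟩
        have : z = y := Subtype.ext e
        rwa [← this]
      · intro hy
        exact ⟨y, hy, rfl⟩
    constructor
    · intro h y
      have := h (y : G)
      rw [hm y] at this
      rw [this, ← hm]
      rfl
    · intro h y
      by_cases hy : y ∈ N
      · have := h ⟨y, hy⟩
        rw [← hm ⟨y, hy⟩, ← hm] at this
        exact this
      · constructor
        · rintro ⟨z, -, e⟩
          exact absurd (e ▸ z.2) hy
        · rintro ⟨z, -, e⟩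
          exfalso
          apply hy
          have h2 : y = (x : G)⁻¹ * z * x := by
            have : (z : G) = (x : G) * y * (x : G)⁻¹ := e
            rw [this]; group
          rw [h2]
          exact mul_mem (mul_mem (inv_mem x.2) z.2) x.2
  have : Fintype (H.subgroupOf N) := Fintype.ofFinite _
  refine mem_charDegrees hsup hθ ?_
  rw [← finsum_eq_sum_of_fintype]
  rw [hB]
  exact h1

/-- Nonprincipal constituents of the permutation character on `G / H`. -/
theorem exists_under_perm {N H : Subgroup G} [N.Normal] (hNH : H ⊔ N = ⊤) [Fintype (H.subgroupOf N)] [Fintype G]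
    {χ : G → ℂ} (hχ : IsIrrCharacter G χ) (hχ1 : χ ≠ fun _ => 1)
    (h1 : classInner (fun g : G => (Nat.card (fixedBy (G ⧸ H) g) : ℂ)) χ ≠ 0) :
    ∃ θ : N → ℂ, IsIrrCharacter N θ ∧ Over N.subtype χ θ ∧ (θ ≠ fun _ => 1) ∧ ∑ b : H.subgroupOf N, θ b ≠ 0 := by
  classical
  letI := Fintype.ofFinite N
  have : Fintype (IrrCharacter G) := @Fintype.ofFinite _ finite_irr
  have : Fintype (IrrCharacter N) := @Fintype.ofFinite _ finite_irr
  obtain ⟨a, ha, ha'⟩ := exists_decomp H
  set X : IrrCharacter G := ⟨χ, hχ⟩ with hX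
  have haX : a X ≠ 0 := by
    intro h2
    apply h1
    have h3 := ha' X
    rw [h2, Nat.cast_zero] at h3
    exact h3
  have hex : ∀ (ξ : IrrCharacter G) (θ : IrrCharacter N), ∃ k : ℕ, classInner (fun y : N => (ξ : G → ℂ) y) (θ : N → ℂ) = k :=
    fun ξ θ => classInner_isNat (isCharacter_comp N.subtype (isIrr_isCharacter ξ.2)) (isIrr_isCharacter θ.2)
  choose k hk using hex
  have hres : ∀ θ : IrrCharacter N, classInner (fun y : N => (Nat.card (fixedBy (G ⧸ H) (y : G)) : ℂ)) (θ : N → ℂ) =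
      ((∑ ξ, a ξ * k ξ θ : ℕ) : ℂ) := by
    intro θ
    rw [inner_restrict N H ha]
    push_cast
    exact Finset.sum_congr rfl fun ξ _ => by rw [hk]
  -- the trivial characters
  set T : IrrCharacter N := ⟨fun _ => 1, isIrr_one⟩ with hT
  set E : IrrCharacter G := ⟨fun _ => 1, isIrr_one⟩ with hE
  have hcl1 : IsClassFunction N (T : N → ℂ) := isIrr_isClassFunction T.2
  have h5 : (Nat.card (H.subgroupOf N) : ℂ) ≠ 0 := card_ne_zero_complex
  have hT1 : ∑ ξ, a ξ * k ξ T = 1 := by
    have h2 := hres T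
    rw [inner_perm hNH hcl1] at h2
    have h3 : ∑ b : H.subgroupOf N, (T : N → ℂ) b = (Nat.card (H.subgroupOf N) : ℂ) := by
      rw [hT]
      simp [Nat.card_eq_fintype_card]
    rw [h3, Complex.conj_natCast, inv_mul_cancel₀ h5] at h2
    exact_mod_cast h2.symm
  have hE1 : k E T = 1 := by
    have h2 := hk E T
    have h3 : classInner (fun y : N => (E : G → ℂ) y) (T : N → ℂ) = 1 := by
      have h4 := classInner_irr_self T.2
      exact h4
    rw [h3] at h2
    exact_mod_cast h2.symm
  have haE : a E = 1 := by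
    have h2 := ha' E
    have : Fintype H := Fintype.ofFinite _
    have h3 := frob H (χ := fun _ : G => (1 : ℂ)) (fun _ _ => rfl)
    have h4 : classInner (fun g : G => (Nat.card (fixedBy (G ⧸ H) g) : ℂ)) (E : G → ℂ) = 1 := by
      rw [classInner_def]
      have h6 : ∑ y : G, (Nat.card (fixedBy (G ⧸ H) y) : ℂ) * conj ((E : G → ℂ) y) =
          ∑ y : G, (1 : ℂ) * (Nat.card (fixedBy (G ⧸ H) y) : ℂ) := by
        refine Finset.sum_congr rfl fun y _ => ?_
        have h7 : (E : G → ℂ) y = 1 := rfl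
        rw [h7, map_one]; ring
      rw [h6, h3]
      simp only [Finset.sum_const, Finset.card_univ, nsmul_eq_mul, mul_one]
      rw [← Nat.card_eq_fintype_card, ← Nat.cast_mul, H.index_mul_card]
      exact inv_mul_cancel₀ card_ne_zero_complex
    rw [h4] at h2
    exact_mod_cast h2.symm
  have hXE : X ≠ E := by
    intro h2
    apply hχ1
    exact congrArg Subtype.val h2
  have hkX : k X T = 0 := by
    have h2 : a X * k X T + a E * k E T ≤ 1 := by
      rw [← hT1, ← Finset.add_sum_erase _ _ (Finset.mem_univ E), add_comm]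
      refine Nat.add_le_add_left ?_ _
      exact Finset.single_le_sum (f := fun ξ => a ξ * k ξ T) (fun _ _ => Nat.zero_le _)
        (Finset.mem_erase.2 ⟨hXE, Finset.mem_univ X⟩)
    rw [haE, hE1] at h2
    have h3 : a X * k X T = 0 := by omega
    exact (Nat.mul_eq_zero.1 h3).resolve_left haX
  -- a constituent
  obtain ⟨θ, hθ, hov⟩ := exists_under (f := N.subtype) hχ
  set Θ : IrrCharacter N := ⟨θ, hθ⟩ with hΘ
  have hov' : classInner (fun n : N => χ n) θ ≠ 0 := (over_subtype_iff N χ θ).1 hov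
  have hkΘ : k X Θ ≠ 0 := by
    intro h2
    apply hov'
    have h3 := hk X Θ
    rw [h2, Nat.cast_zero] at h3
    exact h3
  refine ⟨θ, hθ, hov, ?_, ?_⟩
  · intro h2
    apply hkΘ
    have : Θ = T := Subtype.ext h2
    rw [this]; exact hkX
  · intro h2
    have h3 := hres Θ
    rw [inner_perm hNH (isIrr_isClassFunction hθ)] at h3
    have h4 : ∑ b : H.subgroupOf N, (Θ : N → ℂ) b = 0 := h2
    rw [h4, map_zero, mul_zero] at h3
    have h6 : ∑ ξ, a ξ * k ξ Θ = 0 := by exact_mod_cast h3.symm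
    have h7 := (Finset.sum_eq_zero_iff.1 h6) X (Finset.mem_univ _)
    exact (mul_ne_zero haX hkΘ) h7

end Cfsg.Agent.H638.FD.Ext
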