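import Cfsg.Agent.H638.FD.RankThree
import Cfsg.Agent.H845.FD.RankTwo
import Cfsg.Agent.H732.StInv
import Cfsg.Agent.H979.LieSplit

/-!
# Almost simple groups with a socle of Lie type of rank at least two (helper638, S4898)
-/

set_option autoImplicit false

namespace Cfsg.Agent.H638.FD.LieGen

open Cfsg CoxeterSystem Cfsg.Agent.ChevalleyStructure.CoxeterGeom Cfsg.Agent.Tits.Roots Cfsg.Agent.Tits.Core
  Cfsg.Agent.Tits.Exchange Cfsg.Agent.Nodes.Reps Cfsg.Agent.Nodes.BNOf Cfsg.Agent.Nodes.StabComb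
  Cfsg.Agent.Nodes.Bruhat Cfsg.Agent.Nodes.LeviDec Cfsg.Agent.Omega.EH3.Kf.Lev

universe u

/-- the Steinberg character -/
theorem exists_st {p : ℕ} (hp : p.Prime) {S : Type u} [Group S] [Finite S] [IsSimpleGroup S] (h : IsLieTypeChar p S) :
    ∃ θ : S → ℂ, IsSt p θ :=
  have : Fact p.Prime := ⟨hp⟩
  H732.StInv.exists_isSt (H979.LieSplit.hasSplit_of_isLieTypeChar hp h)

/-- rank at least two, not of type `A₂` -/
theorem five_HasCG' {G : Type u} [Group G] [Finite G] {p : ℕ} [Fact p.Prime] (N : Subgroup G) [N.Normal]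
    (hc : Subgroup.centralizer (N : Set G) = ⊥) [IsSimpleGroup N] (hN : HasCG' p N) (θ : N → ℂ) (hθ : IsSt p θ) :
    5 ≤ (charDegrees G).ncard := by
  obtain ⟨l, M, A, h, T, n, X, hl, hW, R, hX, hC, hconn, h2⟩ := hN
  have hG : GG M.toCoxeterSystem h T X = ⊤ := by
    rw [eq_top_iff, ← hX]
    exact le_sup_right
  rcases Nat.lt_or_ge 2 l with h3 | h3
  · exact RankThree.five_rank_three N hc h3 R hG hC hconn θ hθ
  · obtain rfl : l = 2 := by omega
    obtain ⟨h4, h5⟩ := h2 rfl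
    refine H845.FD.RankTwo.five_rank_two N hc R hG hC ?_ h5 θ hθ
    obtain ⟨a, ha, b, hb, hab⟩ := hconn {0} (Set.singleton_nonempty 0) (by
      intro h6
      have h7 : (1 : Fin 2) ∈ ({0} : Set (Fin 2)) := by rw [h6]; trivial
      exact absurd h7 (by simp))
    obtain rfl : a = 0 := ha
    obtain rfl : b = 1 := by
      have h6 : b ≠ 0 := hb
      omega
    have h6 := h4 0 1
    rcases h.rel 0 1 (by decide) with h7 | h7 | h7 | h7 <;> omega

end Cfsg.Agent.H638.FD.LieGen
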