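import Mathlib

/-!
# Subdegrees as indices (helper638)

* `card_orbit` : the subdegree of `x H` in `G / H` is `|H : H ∩ x H x⁻¹|`;
* `relIndex_eq_mul` : `|H : K| = |H : P K| |P : P ∩ K|` for `P` normal in `H`.
-/

set_option autoImplicit false

namespace Cfsg.Agent.H638.FD.Sub

open MulAction

variable {G : Type*} [Group G]

theorem stab_mk (H : Subgroup G) (x : G) :
    stabilizer G (QuotientGroup.mk x : G ⧸ H) = H.map (MulAut.conj x).toMonoidHom := by
  ext g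
  rw [mem_stabilizer_iff]
  constructor
  · intro h
    have h1 : (QuotientGroup.mk (g * x) : G ⧸ H) = QuotientGroup.mk x := h
    rw [eq_comm, QuotientGroup.eq] at h1
    exact ⟨x⁻¹ * (g * x), h1, by simp [mul_assoc]⟩
  · rintro ⟨y, hy, rfl⟩
    change (QuotientGroup.mk (x * y * x⁻¹ * x) : G ⧸ H) = QuotientGroup.mk x
    rw [eq_comm, QuotientGroup.eq]
    have : x⁻¹ * (x * y * x⁻¹ * x) = y := by group
    rw [this]; exact hy

theorem card_orbit (H : Subgroup G) (x : G) :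
    Nat.card (orbit (stabilizer G (QuotientGroup.mk 1 : G ⧸ H)) (QuotientGroup.mk x : G ⧸ H)) =
      (H.map (MulAut.conj x).toMonoidHom).relIndex H := by
  have h1 : stabilizer G (QuotientGroup.mk 1 : G ⧸ H) = H := by
    rw [stab_mk, map_one]
    ext y
    constructor
    · rintro ⟨z, hz, rfl⟩
      exact hz
    · intro hy
      exact ⟨y, hy, rfl⟩
  rw [h1, Subgroup.relIndex, ← stab_mk]
  have h2 := MulAction.index_stabilizer (↥H) (QuotientGroup.mk x : G ⧸ H)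
  rw [Nat.card_coe_set_eq, ← h2]
  rfl

theorem relIndex_eq_mul [Finite G] {P K H : Subgroup G} (hPH : P ≤ H) (hKH : K ≤ H)
    (hn : H ≤ Subgroup.normalizer (P : Set G)) :
    K.relIndex H = (P ⊔ K).relIndex H * K.relIndex P := by
  have h1 := Subgroup.relIndex_mul_relIndex K (P ⊔ K) H le_sup_right (sup_le hPH hKH)
  rw [← h1, mul_comm]
  congr 1
  -- `|P K : K| = |P : P ∩ K|`
  symm
  rw [Subgroup.relIndex, Subgroup.relIndex, Subgroup.index, Subgroup.index]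
  refine Nat.card_congr (Equiv.ofBijective (fun q : P ⧸ K.subgroupOf P => Quotient.liftOn' q
    (fun x : P => (QuotientGroup.mk (⟨x, le_sup_left (a := P) x.2⟩ : ↥(P ⊔ K)) : ↥(P ⊔ K) ⧸ K.subgroupOf (P ⊔ K)))
    (fun x x' hxx => ?_)) ⟨?_, ?_⟩)
  · rw [QuotientGroup.leftRel_apply, Subgroup.mem_subgroupOf] at hxx
    rw [QuotientGroup.eq, Subgroup.mem_subgroupOf]
    exact hxx
  · intro a b hab
    obtain ⟨x, rfl⟩ := QuotientGroup.mk_surjective a
    obtain ⟨x', rfl⟩ := QuotientGroup.mk_surjective b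
    have h2 : (QuotientGroup.mk (⟨x, le_sup_left (a := P) x.2⟩ : ↥(P ⊔ K)) : ↥(P ⊔ K) ⧸ K.subgroupOf (P ⊔ K)) =
      QuotientGroup.mk (⟨x', le_sup_left (a := P) x'.2⟩ : ↥(P ⊔ K)) := hab
    rw [QuotientGroup.eq, Subgroup.mem_subgroupOf] at h2 ⊢
    exact h2
  · intro a
    obtain ⟨⟨g, hg⟩, rfl⟩ := QuotientGroup.mk_surjective a
    have hg' : g ∈ ((P ⊔ K : Subgroup G) : Set G) := hg
    rw [Subgroup.coe_mul_of_right_le_normalizer_left _ _ (hKH.trans hn), Set.mem_mul] at hg'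
    obtain ⟨x, hx, k, hk, rfl⟩ := hg'
    refine ⟨QuotientGroup.mk ⟨x, hx⟩, ?_⟩
    change (QuotientGroup.mk (⟨x, _⟩ : ↥(P ⊔ K)) : ↥(P ⊔ K) ⧸ K.subgroupOf (P ⊔ K)) = QuotientGroup.mk _
    rw [QuotientGroup.eq, Subgroup.mem_subgroupOf]
    change x⁻¹ * (x * k) ∈ K
    rw [inv_mul_cancel_left]; exact hk

/-- The number of cosets of `P K` in `H`, when `H = P S` and the cosets of the elements of `S` are determined by `f`. -/
theorem relIndex_le {P K H : Subgroup G} (hPH : P ≤ H) (hn : H ≤ Subgroup.normalizer (P : Set G)) {α : Type*} (f : G → α) (O : Finset α)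
    (S : Set G) (hS : ∀ h ∈ H, ∃ c ∈ P, ∃ g ∈ S, h = c * g) (hSH : S ⊆ H) (hO : ∀ g ∈ S, f g ∈ O)
    (hf : ∀ g ∈ S, ∀ g' ∈ S, f g = f g' → g⁻¹ * g' ∈ P ⊔ K) : (P ⊔ K).relIndex H ≤ O.card := by
  classical
  rw [Subgroup.relIndex, Subgroup.index]
  have key : ∀ q : H ⧸ (P ⊔ K).subgroupOf H, ∃ g : H, (g : G) ∈ S ∧ QuotientGroup.mk g = q := by
    intro q
    obtain ⟨⟨h, hh⟩, rfl⟩ := QuotientGroup.mk_surjective q
    obtain ⟨c, hc, g, hg, rfl⟩ := hS h hh
    refine ⟨⟨g, hSH hg⟩, hg, ?_⟩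
    rw [QuotientGroup.eq, Subgroup.mem_subgroupOf]
    change g⁻¹ * (c * g) ∈ P ⊔ K
    refine Subgroup.mem_sup_left ?_
    have h1 := (Subgroup.mem_normalizer_iff.1 (inv_mem (hn (hSH hg))) c).1 hc
    rw [inv_inv, mul_assoc] at h1
    exact h1
  choose r hr hr' using key
  have h1 := Nat.card_le_card_of_injective (fun q => (⟨f (r q), hO _ (hr q)⟩ : O)) (by
    intro a b hab
    have h2 := hf _ (hr a) _ (hr b) (congrArg Subtype.val hab)
    rw [← hr' a, ← hr' b, QuotientGroup.eq, Subgroup.mem_subgroupOf]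
    exact h2)
  rwa [Nat.card_eq_fintype_card (α := O), Fintype.card_coe] at h1

end Cfsg.Agent.H638.FD.Sub
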