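import Cfsg.Agent.H969.TT.Principal
import Cfsg.Agent.KFacts.RgdTau
import Cfsg.Agent.H638.FD.Def
import Cfsg.Agent.H117.ParIdx
import Cfsg.Agent.H621.Deg.AutPar
import Cfsg.Agent.H152.PS.Deg
import Cfsg.Agent.H638.FD.Sub
import Cfsg.Agent.H638.FD.Ext
import Cfsg.Agent.Nodes.NormalForm
import Cfsg.Agent.Tits.ExtAux
import Cfsg.Agent.S0716
import Cfsg.Agent.H554.RG
import Cfsg.Agent.LieRecognition.CoxForm

/-!
# The permutation characters on the parabolic subgroups of an almost simple group (helper638)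

`N` normal in the finite group `G`, `R` a root group datum in `N`, `J` a set of nodes invariant under all diagram
automorphisms, `HJ J` the normalizer in `G` of the parabolic subgroup `P_J` of `N`.
* `sup_eq_top`, `subgroupOf_eq`, `index_eq` : `G = N HJ`, `N ∩ HJ = P_J`;
* `dvd_constituent` : the degrees of the nonprincipal constituents of the permutation character on `G / HJ` are divisible by `p`;
* `false_of_eq` : they are not all equal.
-/

set_option autoImplicit false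
set_option linter.unusedSectionVars false

namespace Cfsg.Agent.H638.FD.Par

open Cfsg CoxeterSystem Cfsg.Agent.ChevalleyStructure.CoxeterGeom Cfsg.Agent.Tits.Roots Cfsg.Agent.Tits.Core
  Cfsg.Agent.Tits.Exchange Cfsg.Agent.Nodes.Reps Cfsg.Agent.Nodes.BNOf Cfsg.Agent.Nodes.StabComb
  Cfsg.Agent.Tits.OfBN Cfsg.Agent.Nodes.OppDec
  Cfsg.Agent.Nodes.Bruhat Cfsg.Agent.Nodes.LeviDec Cfsg.Agent.Omega.EH3.Kf.Lev Cfsg.Agent.Lib.MinNormalNonabelian
  MulAction
  Cfsg.Agent.Characters.Core Cfsg.Agent.H672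
open Cfsg.Agent.H117.ParIdx (normalizer_PJ not_dvd_relIndex relIndex_opp relIndex_simple_dvd two_mul_le_card_VJ mul_le_card_VJ)
open Cfsg.Agent.H621.Deg (aut_par)
open Cfsg.Agent.H152.PS (dvd_degree)

universe u

variable {I W : Type*} [Fintype I] [DecidableEq I] [Group W] {M : CoxeterMatrix I}
  {cs : CoxeterSystem M W} {A : I → I → ℤ} {h : IsCartan M A} {p : ℕ} {G : Type u} [Group G] {N : Subgroup G}
  {T : Subgroup N} {n : I → N} {X : (I → ℤ) → Subgroup N}

/-- invariance under the diagram automorphisms -/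
def Stable (M : CoxeterMatrix I) (J : Set I) : Prop :=
  ∀ σ : Equiv.Perm I, (∀ i j, M (σ i) (σ j) = M i j) → σ '' J = J

/-- the normalizer of the parabolic subgroup -/
def HJ (cs : CoxeterSystem M W) (h : IsCartan M A) (T : Subgroup N) (X : (I → ℤ) → Subgroup N) (J : Set I) : Subgroup G :=
  Subgroup.normalizer (((PJ cs h T X J).map N.subtype : Subgroup G) : Set G)

theorem mem_map_iff (K : Subgroup N) (x : N) : (x : G) ∈ K.map N.subtype ↔ x ∈ K := by
  constructor
  · rintro ⟨z, hz, e⟩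
    have : z = x := Subtype.ext e
    rwa [← this]
  · intro hx
    exact ⟨x, hx, rfl⟩

theorem mem_normalizer_map [hN : N.Normal] (K : Subgroup N) {g : G} :
    g ∈ Subgroup.normalizer ((K.map N.subtype : Subgroup G) : Set G) ↔
      ∀ x : N, (MulAut.conjNormal g : MulAut N) x ∈ K ↔ x ∈ K := by
  rw [Subgroup.mem_normalizer_iff]
  constructor
  · intro h1 x
    rw [← mem_map_iff K x, h1, ← mem_map_iff K]
    rfl
  · intro h1 y
    by_cases hy : y ∈ N
    · have h2 := h1 ⟨y, hy⟩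
      rw [← mem_map_iff K ⟨y, hy⟩, ← mem_map_iff K] at h2
      exact h2.symm
    · constructor
      · rintro ⟨z, -, e⟩
        exact absurd (e ▸ z.2) hy
      · rintro ⟨z, -, e⟩
        exfalso
        apply hy
        have h2 : y = g⁻¹ * z * g⁻¹⁻¹ := by
          have : (z : G) = g * y * g⁻¹ := e
          rw [this]; group
        rw [h2]
        exact hN.conj_mem _ z.2 _

theorem exists_sylow [Finite W] [Finite G] [Fact p.Prime] (R : RGD cs h p T n X) (hG : GG cs h T X = ⊤) :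
    ∃ P : Sylow p N, (P : Subgroup N) = RGD.Sup X (RGD.Pos cs h) := by
  obtain ⟨S, hS⟩ := R.isPGroup_Upos.exists_le_sylow
  exact ⟨S, Nodes.NormalForm.eq_U_of_isPGroup R S.isPGroup' hS (by rw [hG]; exact le_top)⟩

/-- elements normalizing `U` -/
theorem of_norm_U [Finite W] [N.Normal] (R : RGD cs h p T n X) (hG : GG cs h T X = ⊤) {J : Set I}
    (hJ : Stable M J) {g : G}
    (hg : g ∈ Subgroup.normalizer (((RGD.Sup X (RGD.Pos cs h)).map N.subtype : Subgroup G) : Set G)) :
    g ∈ HJ cs h T X J ∧ ∃ σ : Equiv.Perm I, (∀ i j, M (σ i) (σ j) = M i j) ∧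
      ∀ s, ∃ b ∈ RGD.B cs h T X, ∃ b' ∈ RGD.B cs h T X, (MulAut.conjNormal g : MulAut N) (n s) = b * n (σ s) * b' := by
  rw [mem_normalizer_map] at hg
  obtain ⟨σ, hσ, hP, hn⟩ := aut_par R hG (MulAut.conjNormal g : MulAut N) hg
  refine ⟨?_, σ, hσ, hn⟩
  rw [HJ, mem_normalizer_map]
  intro x
  have h1 := hP J
  rw [hJ σ hσ] at h1
  constructor
  · intro h2
    rw [← h1] at h2
    obtain ⟨y, hy, e⟩ := h2
    have : y = x := (MulAut.conjNormal g : MulAut N).injective e
    rwa [← this]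
  · intro h2
    rw [← h1]
    exact ⟨x, h2, rfl⟩

theorem sup_eq_top [Finite W] [Finite G] [Fact p.Prime] [N.Normal] (R : RGD cs h p T n X) (hG : GG cs h T X = ⊤)
    {J : Set I} (hJ : Stable M J) : HJ cs h T X J ⊔ N = ⊤ := by
  obtain ⟨P, hP⟩ := exists_sylow R hG
  have h1 := Sylow.normalizer_sup_eq_top P
  rw [eq_top_iff, ← h1]
  refine sup_le_sup_right (fun g hg => (of_norm_U R hG hJ ?_).1) N
  rw [← hP]
  exact hg

theorem subgroupOf_eq [Finite W] [N.Normal] (R : RGD cs h p T n X) (hG : GG cs h T X = ⊤) (J : Set I) :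
    (HJ cs h T X J).subgroupOf N = PJ cs h T X J := by
  rw [← normalizer_PJ R hG J]
  ext x
  rw [Subgroup.mem_subgroupOf, HJ, mem_normalizer_map, Subgroup.mem_normalizer_iff]
  constructor
  · intro h1 y
    exact (h1 y).symm
  · intro h1 y
    exact (h1 y).symm

theorem map_le_HJ [N.Normal] (J : Set I) : (PJ cs h T X J).map N.subtype ≤ HJ cs h T X J := Subgroup.le_normalizer

theorem inf_eq [Finite W] [N.Normal] (R : RGD cs h p T n X) (hG : GG cs h T X = ⊤) (J : Set I) :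
    HJ cs h T X J ⊓ N = (PJ cs h T X J).map N.subtype := by
  rw [← subgroupOf_eq R hG J, Subgroup.subgroupOf_map_subtype]

theorem index_eq [Finite W] [Finite G] [Fact p.Prime] [N.Normal] (R : RGD cs h p T n X) (hG : GG cs h T X = ⊤)
    {J : Set I} (hJ : Stable M J) : (HJ cs h T X J).index = (PJ cs h T X J).index := by
  have hn : (⊤ : Subgroup G) ≤ Subgroup.normalizer (N : Set G) := by
    rw [Subgroup.normalizer_eq_top]
  have h1 := Sub.relIndex_eq_mul (P := N) (K := HJ cs h T X J) (H := ⊤) le_top le_top hn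
  rw [sup_comm, sup_eq_top R hG hJ, Subgroup.relIndex_self, one_mul, Subgroup.relIndex_top_right] at h1
  rw [h1, ← subgroupOf_eq R hG J]
  rfl

/-! ### constituents -/

theorem sum_ne_zero [Finite G] {B P : Subgroup G} [Fintype B] [Fintype P] (hBP : B ≤ P) {χ : G → ℂ} (hχ : IsIrrCharacter G χ)
    (h1 : ∑ b : P, χ b ≠ 0) : ∑ b : B, χ b ≠ 0 := by
  intro h2
  apply h1
  have h3 : ∀ x : P, ∑ b : B, χ (x * b) = 0 := fun x => H969.TT.TopAbs.sum_mul_eq_zero B hχ h2 x
  have h4 : ∑ b : B, ∑ x : P, χ (x * b) = ∑ b : B, ∑ x : P, χ x := by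
    refine Finset.sum_congr rfl fun b _ => ?_
    refine Fintype.sum_equiv (Equiv.mulRight (⟨b, hBP b.2⟩ : P)) _ _ fun x => ?_
    rfl
  rw [Finset.sum_comm, Finset.sum_congr rfl fun x _ => h3 x, Finset.sum_const_zero, Finset.sum_const, Finset.card_univ,
    nsmul_eq_mul] at h4
  have h5 : ((Fintype.card B : ℕ) : ℂ) ≠ 0 := by exact_mod_cast Fintype.card_ne_zero
  exact (mul_eq_zero.1 h4.symm).resolve_left h5

theorem dvd_constituent [Finite W] [Finite G] [Fintype G] [Fact p.Prime] [N.Normal] (R : RGD cs h p T n X) (hG : GG cs h T X = ⊤)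
    (hC : CommGen cs h X) {J : Set I} (hJ : Stable M J) {χ : G → ℂ} (hχ : IsIrrCharacter G χ) (h1 : χ ≠ fun _ => 1)
    (hc : classInner (fun g : G => (Nat.card (fixedBy (G ⧸ HJ cs h T X J) g) : ℂ)) χ ≠ 0) : p ∣ charDegree χ := by
  classical
  let _ : Fintype ((HJ cs h T X J).subgroupOf N) := Fintype.ofFinite _
  let _ : Fintype (RGD.B cs h T X) := Fintype.ofFinite _
  obtain ⟨θ, hθ, hov, hθ1, hsum⟩ := Ext.exists_under_perm (N := N) (sup_eq_top R hG hJ) hχ h1 hc
  refine dvd_trans ?_ (charDegree_dvd_of_over N hχ hθ hov).1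
  refine dvd_degree R hG hC hθ hθ1 (sum_ne_zero (P := (HJ cs h T X J).subgroupOf N) ?_ hθ hsum)
  rw [subgroupOf_eq R hG J]
  exact B_le_PJ

/-! ### subdegrees -/

theorem inf_map [N.Normal] [Finite W] (R : RGD cs h p T n X) (hG : GG cs h T X = ⊤) (J : Set I) (x : N) :
    (HJ cs h T X J ⊓ (HJ cs h T X J).map (MulAut.conj (x : G)).toMonoidHom) ⊓ (PJ cs h T X J).map N.subtype =
      (PJ cs h T X J ⊓ (PJ cs h T X J).map (MulAut.conj x).toMonoidHom).map N.subtype := by
  ext g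
  constructor
  · rintro ⟨⟨-, h2⟩, y, hy, rfl⟩
    refine ⟨y, ⟨hy, ?_⟩, rfl⟩
    obtain ⟨z, hz, e⟩ := h2
    have e' : (x : G) * z * (x : G)⁻¹ = (y : G) := e
    have e1 : z = ((x⁻¹ * y * x : N) : G) := by
      have : (y : G) = (x : G) * z * (x : G)⁻¹ := e'.symm
      push_cast
      rw [this]; group
    refine ⟨x⁻¹ * y * x, ?_, ?_⟩
    · rw [SetLike.mem_coe, ← subgroupOf_eq R hG J, Subgroup.mem_subgroupOf, ← e1]
      exact hz
    · change x * (x⁻¹ * y * x) * x⁻¹ = y
      group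
  · rintro ⟨y, ⟨hy, z, hz, e⟩, rfl⟩
    have hle : ∀ w : N, w ∈ PJ cs h T X J → (w : G) ∈ HJ cs h T X J := by
      intro w hw
      rw [← subgroupOf_eq R hG J, Subgroup.mem_subgroupOf] at hw
      exact hw
    refine ⟨⟨hle y hy, (z : G), hle z hz, ?_⟩, y, hy, rfl⟩
    have e' : x * z * x⁻¹ = y := e
    change (x : G) * z * (x : G)⁻¹ = (y : G)
    rw [← e']
    push_cast
    rfl

/-- the number of the `P_J`-suborbits in a suborbit -/
noncomputable def tt (cs : CoxeterSystem M W) (h : IsCartan M A) (T : Subgroup N) (X : (I → ℤ) → Subgroup N) (J : Set I) (x : N) : ℕ :=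
  ((PJ cs h T X J).map N.subtype ⊔ (HJ cs h T X J ⊓ (HJ cs h T X J).map (MulAut.conj (x : G)).toMonoidHom)).relIndex
    (HJ cs h T X J)

theorem subdegree_eq [N.Normal] [Finite W] [Finite G] (R : RGD cs h p T n X) (hG : GG cs h T X = ⊤) (J : Set I) (x : N) :
    Nat.card (orbit (stabilizer G (QuotientGroup.mk 1 : G ⧸ HJ cs h T X J)) (QuotientGroup.mk (x : G) : G ⧸ HJ cs h T X J)) =
      tt cs h T X J x * (PJ cs h T X J ⊓ (PJ cs h T X J).map (MulAut.conj x).toMonoidHom).relIndex (PJ cs h T X J) := by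
  rw [Sub.card_orbit]
  set H := HJ cs h T X J with hH
  set K := H ⊓ H.map (MulAut.conj (x : G)).toMonoidHom with hK
  have h1 : (H.map (MulAut.conj (x : G)).toMonoidHom).relIndex H = K.relIndex H := by
    rw [hK, Subgroup.inf_relIndex_left]
  rw [h1, Sub.relIndex_eq_mul (P := (PJ cs h T X J).map N.subtype) (map_le_HJ J) inf_le_left (le_refl _), tt]
  congr 1
  rw [← Subgroup.inf_relIndex_right, inf_map R hG J x, Subgroup.relIndex_map_map_of_injective _ _ N.subtype_injective]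

theorem tt_le [N.Normal] [Finite W] [Finite G] [Fact p.Prime] (R : RGD cs h p T n X) (hG : GG cs h T X = ⊤) {J : Set I}
    (hJ : Stable M J) (O : Finset I) (hO : ∀ i, i ∈ O ↔ i ∉ J) {s : I} (hs : s ∉ J) :
    tt cs h T X J (n s) ≤ O.card := by
  classical
  set H := HJ cs h T X J with hH
  set P := (PJ cs h T X J).map N.subtype with hP
  set S : Set G := {g | g ∈ Subgroup.normalizer (((RGD.Sup X (RGD.Pos cs h)).map N.subtype : Subgroup G) : Set G)} with hS
  have hHP : H ≤ Subgroup.normalizer (P : Set G) := le_refl _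
  have hPN : P = H ⊓ N := (inf_eq R hG J).symm
  have hle : ∀ w : N, w ∈ PJ cs h T X J → (w : G) ∈ P := fun w hw => ⟨w, hw, rfl⟩
  -- the type
  have key : ∀ g ∈ S, ∃ s' ∈ O, ∃ b ∈ RGD.B cs h T X, ∃ b' ∈ RGD.B cs h T X,
      (MulAut.conjNormal g : MulAut N) (n s) = b * n s' * b' := by
    intro g hg
    obtain ⟨-, σ, hσ, hn⟩ := of_norm_U R hG hJ hg
    refine ⟨σ s, ?_, hn s⟩
    rw [hO]
    intro h1
    apply hs
    have h2 := hJ σ hσ
    rw [← h2] at h1
    obtain ⟨j, hj, e⟩ := h1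
    rwa [← σ.injective e]
  let f : G → I := fun g => if hg : g ∈ S then (key g hg).choose else s
  have hf : ∀ g, ∀ hg : g ∈ S, f g = (key g hg).choose := fun g hg => dif_pos hg
  refine Sub.relIndex_le (map_le_HJ J) hHP f O S ?_ ?_ ?_ ?_
  · intro x hx
    obtain ⟨Q, hQ⟩ := exists_sylow R hG
    have h1 := Sylow.normalizer_sup_eq_top Q
    have h2 : x ∈ ((N ⊔ Subgroup.normalizer (((Q : Subgroup N).map N.subtype : Subgroup G) : Set G) : Subgroup G) : Set G) := by
      rw [sup_comm, h1]; exact Subgroup.mem_top x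
    rw [Subgroup.normal_mul, Set.mem_mul] at h2
    obtain ⟨c, hc, g, hg, rfl⟩ := h2
    have hgS : g ∈ S := by
      change g ∈ Subgroup.normalizer _
      rw [← hQ]; exact hg
    refine ⟨c, ?_, g, hgS, rfl⟩
    change c ∈ P
    rw [hPN]
    refine ⟨?_, hc⟩
    have h3 := mul_mem hx (inv_mem (of_norm_U R hG hJ hgS).1)
    rwa [mul_inv_cancel_right] at h3
  · intro g hg
    exact (of_norm_U R hG hJ hg).1
  · intro g hg
    rw [hf g hg]
    exact (key g hg).choose_spec.1
  · intro g hg g' hg' he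
    rw [hf g hg, hf g' hg'] at he
    obtain ⟨-, b₁, hb₁, b₂, hb₂, e⟩ := (key g hg).choose_spec
    obtain ⟨-, c₁, hc₁, c₂, hc₂, e'⟩ := (key g' hg').choose_spec
    rw [he] at e
    set s' := (key g' hg').choose
    have hgH := (of_norm_U R hG hJ hg).1
    have hgH' := (of_norm_U R hG hJ hg').1
    -- in `G`
    have e1 : g * (n s : G) * g⁻¹ = b₁ * n s' * b₂ := congrArg Subtype.val e
    have e2 : g' * (n s : G) * g'⁻¹ = c₁ * n s' * c₂ := congrArg Subtype.val e'
    have hPm : ∀ b ∈ RGD.B cs h T X, (b : G) ∈ P := fun b hb => hle b (B_le_PJ hb)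
    have hPH : P ≤ H := map_le_HJ J
    set y : G := g⁻¹ * (b₁ * (c₁ : G)⁻¹) * g' with hy
    set z : G := g'⁻¹ * ((c₂ : G)⁻¹ * b₂) * g with hz
    have hyH : y ∈ H := mul_mem (mul_mem (inv_mem hgH) (hPH (mul_mem (hPm _ hb₁) (inv_mem (hPm _ hc₁))))) hgH'
    have hzH : z ∈ H := mul_mem (mul_mem (inv_mem hgH') (hPH (mul_mem (inv_mem (hPm _ hc₂)) (hPm _ hb₂)))) hgH
    have e3 : (n s : G) = y * n s * z := by
      have h1 : (n s' : G) = (c₁ : G)⁻¹ * (g' * (n s : G) * g'⁻¹) * (c₂ : G)⁻¹ := by rw [e2]; group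
      have h2 : (n s : G) = g⁻¹ * (b₁ * n s' * b₂) * g := by rw [← e1]; group
      rw [h1] at h2
      conv_lhs => rw [h2]
      rw [hy, hz]; group
    have hyK : y ∈ H ⊓ H.map (MulAut.conj (n s : G)).toMonoidHom := by
      refine ⟨hyH, z⁻¹, inv_mem hzH, ?_⟩
      change (n s : G) * z⁻¹ * (n s : G)⁻¹ = y
      have h1 : y = (n s : G) * z⁻¹ * (n s : G)⁻¹ := by
        have h2 : y * n s * z * z⁻¹ * (n s : G)⁻¹ = y := by group
        rw [← h2, ← e3]
      exact h1.symm
    have e4 : g⁻¹ * g' = y * (g'⁻¹ * ((c₁ : G) * (b₁ : G)⁻¹) * g'⁻¹⁻¹) := by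
      rw [hy]; group
    rw [e4]
    refine mul_mem (Subgroup.mem_sup_right hyK) (Subgroup.mem_sup_left ?_)
    exact (Subgroup.mem_normalizer_iff.1 (hHP (inv_mem hgH')) _).1 (mul_mem (hPm _ hc₁) (inv_mem (hPm _ hb₁)))

/-- stability under the opposition -/
theorem op_mem_iff [Finite W] (h : IsCartan M A) {J : Set I} (hJ : Stable M J) (i : I) : op cs i ∈ J ↔ i ∈ J := by
  have hinj : Function.Injective cs.simple := fun i j hij => by
    by_contra hne
    exact RGD.simple_ne (cs := cs) (h := h) hne hij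
  let σ : Equiv.Perm I := ⟨op cs, op cs, fun i => op_op cs hinj i, fun i => op_op cs hinj i⟩
  have hσ : ∀ i, σ i = op cs i := fun _ => rfl
  have h1 : ∀ i j, M (σ i) (σ j) = M i j := by
    intro i j
    rw [← LieRecognition.CoxForm.orderOf_eq cs (σ i) (σ j), ← LieRecognition.CoxForm.orderOf_eq cs i j, hσ, hσ, simple_op, simple_op]
    have e : w0 cs * cs.simple i * w0 cs * (w0 cs * cs.simple j * w0 cs) =
        w0 cs * (cs.simple i * cs.simple j) * (w0 cs)⁻¹ := by
      rw [w0_inv]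
      have : w0 cs * cs.simple i * w0 cs * (w0 cs * cs.simple j * w0 cs) =
        w0 cs * cs.simple i * (w0 cs * w0 cs) * cs.simple j * w0 cs := by group
      rw [this, w0_mul_self]; group
    rw [e]
    exact orderOf_injective (MulAut.conj (w0 cs)).toMonoidHom (MulAut.conj (w0 cs)).injective _
  have h2 := hJ σ h1
  constructor
  · intro h3
    rw [← h2] at h3
    obtain ⟨j, hj, e⟩ := h3
    rwa [← σ.injective e]
  · intro h3
    rw [← h2]
    exact ⟨i, h3, rfl⟩

/-- **The nonprincipal constituents do not all have the same degree.** -/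
theorem false_of_eq [N.Normal] [Finite W] [Fintype G] [Fact p.Prime] (R : RGD cs h p T n X) (hG : GG cs h T X = ⊤)
    (hconn : ∀ J : Set I, J.Nonempty → J ≠ Set.univ → ∃ a ∈ J, ∃ b, b ∉ J ∧ M a b ≠ 2) {J : Set I}
    (hJ : Stable M J) (hne : J.Nonempty) (O : Finset I) (hO : ∀ i, i ∈ O ↔ i ∉ J) (hO1 : O.card = 1 ∨ O.card = 2) (f : ℕ)
    (hf : ∀ χ : G → ℂ, IsIrrCharacter G χ → (χ ≠ fun _ => 1) →
      classInner (fun g : G => (Nat.card (fixedBy (G ⧸ HJ cs h T X J) g) : ℂ)) χ ≠ 0 → charDegree χ = f) : False := by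
  classical
  have hp : p.Prime := Fact.out
  have hJu : J ≠ Set.univ := by
    intro h1
    have h2 : O = ∅ := by
      rw [Finset.eq_empty_iff_forall_notMem]
      intro i hi
      exact (hO i).1 hi (by rw [h1]; trivial)
    rw [h2, Finset.card_empty] at hO1
    omega
  obtain ⟨j, hj, s, hs, hM⟩ := hconn J hne hJu
  have hM' : M s j ≠ 2 := by rw [M.symmetric]; exact hM
  obtain ⟨k, hk⟩ := exists_rp cs R.nsys (w0 cs)
  let _ : Fintype (G ⧸ HJ cs h T X J) := Fintype.ofFinite _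
  set a : G ⧸ HJ cs h T X J := QuotientGroup.mk 1 with ha
  have hsub := ((S0716.result (G := G) (Ω := G ⧸ HJ cs h T X J) a).1 f (fun χ h1 h2 h3 => by
    rw [← coe_charDegree h1, hf χ h1 h2 h3])).2
  have hV2 : 2 * Nat.card (X (sr s)) ≤ Nat.card (VJ cs h X J) := two_mul_le_card_VJ R J hs hj hM'
  have hXpos : 0 < Nat.card (X (sr s)) := Nat.card_pos
  have hopp := relIndex_opp R hG J (op_mem_iff h hJ) hk
  -- the two points
  have hka : (QuotientGroup.mk (k : G) : G ⧸ HJ cs h T X J) ≠ a := by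
    intro h1
    rw [ha, eq_comm, QuotientGroup.eq, inv_one, one_mul] at h1
    have h2 : k ∈ PJ cs h T X J := by
      rw [← subgroupOf_eq R hG J, Subgroup.mem_subgroupOf]; exact h1
    rw [H554.RG.map_conj_of_mem R h2, inf_idem, Subgroup.relIndex_self] at hopp
    omega
  have hsa : (QuotientGroup.mk (n s : G) : G ⧸ HJ cs h T X J) ≠ a := by
    intro h1
    rw [ha, eq_comm, QuotientGroup.eq, inv_one, one_mul] at h1
    have h2 : n s ∈ PJ cs h T X J := by
      rw [← subgroupOf_eq R hG J, Subgroup.mem_subgroupOf]; exact h1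
    exact hs ((H554.RG.n_mem_PJ_iff R).1 h2)
  have e1 := (subdegree_eq R hG J k).symm.trans (hsub _ hka)
  have e2 := (subdegree_eq R hG J (n s)).symm.trans (hsub _ hsa)
  rw [hopp] at e1
  have htt := tt_le R hG hJ O hO hs
  obtain ⟨c, hc⟩ := relIndex_simple_dvd R hG J s
  -- `|V_J|` divides `t q_s`
  have hVp : ∃ m, Nat.card (VJ cs h X J) = p ^ m := by
    have h1 : IsPGroup p (VJ cs h X J) := R.isPGroup_Upos.to_le (VJ_le_U J)
    exact IsPGroup.iff_card.1 h1
  obtain ⟨m, hm⟩ := hVp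
  have hcop : Nat.Coprime (Nat.card (VJ cs h X J)) ((RGD.Sup X (RGD.Pos cs h)).relIndex (PJ cs h T X J)) := by
    rw [hm]
    exact Nat.Coprime.pow_left _ ((Nat.Prime.coprime_iff_not_dvd hp).2 (not_dvd_relIndex R hG J))
  have hdvd : Nat.card (VJ cs h X J) ∣ tt cs h T X J (n s) * Nat.card (X (sr s)) := by
    refine hcop.dvd_of_dvd_mul_left (n := tt cs h T X J (n s) * Nat.card (X (sr s))) ?_
    have h1 : Nat.card (VJ cs h X J) ∣ f := ⟨_, by rw [← e1]; ring⟩
    refine h1.trans ⟨c, ?_⟩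
    rw [← e2, mul_assoc, ← hc]
    ring
  have hOne : O.Nonempty := ⟨s, (hO s).2 hs⟩
  have htpos : 0 < tt cs h T X J (n s) := Nat.pos_of_ne_zero (by
    unfold tt Subgroup.relIndex; exact Subgroup.index_ne_zero_of_finite)
  have hle := Nat.le_of_dvd (Nat.mul_pos htpos hXpos) hdvd
  rcases hO1 with h1 | h2
  · rw [h1] at htt
    have h3 : tt cs h T X J (n s) * Nat.card (X (sr s)) ≤ 1 * Nat.card (X (sr s)) := Nat.mul_le_mul_right _ htt
    omega
  · obtain ⟨s', hs', hss⟩ := Finset.exists_mem_ne (by rw [h2]; norm_num : 1 < O.card) s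
    have hs'J := (hO s').1 hs'
    have hV := mul_le_card_VJ R J hs hs'J (Ne.symm hss) hj hM'
    have hq' : 2 ≤ Nat.card (X (sr s')) := by
      obtain ⟨u, hu, hu1⟩ := exists_ne_one R s'
      have : Nontrivial (X (sr s')) := ⟨⟨⟨u, hu⟩, 1, fun h1 => hu1 (congrArg Subtype.val h1)⟩⟩
      exact Finite.one_lt_card
    rw [h2] at htt
    have h3 : tt cs h T X J (n s) * Nat.card (X (sr s)) ≤ 2 * Nat.card (X (sr s)) := Nat.mul_le_mul_right _ htt
    have h4 : Nat.card (X (sr s)) * 2 ≤ Nat.card (X (sr s)) * Nat.card (X (sr s')) := Nat.mul_le_mul_left _ hq'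
    omega

end Cfsg.Agent.H638.FD.Par
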