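import Cfsg.Agent.H638.FD.Par
import Cfsg.Agent.H783.CoxNodes
import Cfsg.Agent.H497.CD.Cnt
import Cfsg.Agent.H69.OctChar
import Cfsg.Agent.S4456

/-!
# Almost simple groups with a socle of Lie rank at least three have at least five character degrees (helper638)
-/

set_option autoImplicit false
set_option linter.unusedSectionVars false

namespace Cfsg.Agent.H638.FD.RankThree

open Cfsg CoxeterSystem Cfsg.Agent.ChevalleyStructure.CoxeterGeom Cfsg.Agent.Tits.Roots Cfsg.Agent.Tits.Core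
  Cfsg.Agent.Tits.Exchange Cfsg.Agent.Nodes.Reps Cfsg.Agent.Nodes.BNOf Cfsg.Agent.Nodes.StabComb
  Cfsg.Agent.Nodes.Bruhat Cfsg.Agent.Nodes.LeviDec Cfsg.Agent.Omega.EH3.Kf.Lev
  Cfsg.Agent.H638.FD.Par MulAction
  Cfsg.Agent.Characters.Core Cfsg.Agent.H672
open Cfsg.Agent.H783.CoxNodes (exists_nodes)

universe u

/-! ### numbers -/

section num

variable {ι : Type*} [Fintype ι] [DecidableEq ι]

theorem pair_le (a b : ℕ) : 2 * ((a + 2) * (b + 2)) ≤ ((a + 3) * (a + 1)) * ((b + 3) * (b + 1)) := by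
  have h1 : 3 * (a + 2) ≤ 2 * ((a + 3) * (a + 1)) := by nlinarith
  have h2 : 3 * (b + 2) ≤ 2 * ((b + 3) * (b + 1)) := by nlinarith
  have h3 := Nat.mul_le_mul h1 h2
  nlinarith

theorem edge_le (a b : ℕ) : 4 * ((a + 2) * (b + 2)) ≤
    ((a + 3) * (a + 1)) * ((b + 1) * (1 + (b + 2) + (a + 2) * (b + 2))) := by
  have h1 : 3 * (a + 2) ≤ 2 * ((a + 3) * (a + 1)) := by nlinarith
  have h2 : 3 * (b + 2) ≤ (b + 1) * (1 + (b + 2) + (a + 2) * (b + 2)) := by nlinarith [Nat.zero_le (a * b)]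
  have h3 := Nat.mul_le_mul h1 h2
  nlinarith

theorem num_one (q : ι → ℕ) (hq : ∀ i, 2 ≤ q i) (O : Finset ι) (hO : O.card = 1) (hc : 2 ≤ Oᶜ.card) :
    ∏ i, q i ≤ (∏ i ∈ Oᶜ, (1 + q i)) * ∏ i, (q i - 1) := by
  obtain ⟨o, rfl⟩ := Finset.card_eq_one.1 hO
  obtain ⟨a, ha, b, hb, hab⟩ := Finset.one_lt_card.1 hc
  set J := ({o} : Finset ι)ᶜ with hJ
  rw [← Finset.prod_mul_prod_compl {o} q, ← Finset.prod_mul_prod_compl {o} (fun i => q i - 1), Finset.prod_singleton,
    Finset.prod_singleton, ← hJ]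
  have h1 : ∀ f : ι → ℕ, ∏ i ∈ J, f i = f a * (f b * ∏ i ∈ (J.erase a).erase b, f i) := by
    intro f
    rw [← Finset.mul_prod_erase J f ha, ← Finset.mul_prod_erase (J.erase a) f (Finset.mem_erase.2 ⟨hab.symm, hb⟩)]
  have h2 : ∏ i ∈ (J.erase a).erase b, q i ≤
      (∏ i ∈ (J.erase a).erase b, (1 + q i)) * ∏ i ∈ (J.erase a).erase b, (q i - 1) := by
    rw [← Finset.prod_mul_distrib]
    refine Finset.prod_le_prod' fun i _ => ?_
    obtain ⟨r, hr⟩ := Nat.exists_eq_add_of_le (hq i)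
    rw [hr]
    have : 2 + r - 1 = r + 1 := by omega
    rw [this]
    nlinarith
  rw [h1, h1, h1]
  obtain ⟨x, hx⟩ := Nat.exists_eq_add_of_le (hq a)
  obtain ⟨y, hy⟩ := Nat.exists_eq_add_of_le (hq b)
  obtain ⟨z, hz⟩ := Nat.exists_eq_add_of_le (hq o)
  have e1 : q a - 1 = x + 1 := by omega
  have e2 : q b - 1 = y + 1 := by omega
  have e3 : q o - 1 = z + 1 := by omega
  rw [e1, e2, e3, hx, hy, hz]
  set P := ∏ i ∈ (J.erase a).erase b, q i
  set P1 := ∏ i ∈ (J.erase a).erase b, (1 + q i)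
  set P2 := ∏ i ∈ (J.erase a).erase b, (q i - 1)
  have h3 := pair_le x y
  have h4 : 2 + z ≤ 2 * (z + 1) := by omega
  calc (2 + z) * ((2 + x) * ((2 + y) * P)) = (2 + z) * ((x + 2) * (y + 2)) * P := by ring
    _ ≤ (2 * (z + 1)) * ((x + 2) * (y + 2)) * (P1 * P2) := Nat.mul_le_mul (Nat.mul_le_mul_right _ h4) h2
    _ = (z + 1) * (2 * ((x + 2) * (y + 2))) * (P1 * P2) := by ring
    _ ≤ (z + 1) * (((x + 3) * (x + 1)) * ((y + 3) * (y + 1))) * (P1 * P2) :=
        Nat.mul_le_mul_right _ (Nat.mul_le_mul_left _ h3)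
    _ = (1 + (2 + x)) * ((1 + (2 + y)) * P1) * ((z + 1) * ((x + 1) * ((y + 1) * P2))) := by ring

theorem num_two (q : ι → ℕ) (hq : ∀ i, 2 ≤ q i) (O : Finset ι) (hO : O.card = 2) {a b : ι} (ha : a ∈ Oᶜ) (hb : b ∈ Oᶜ)
    (hab : a ≠ b) :
    ∏ i, q i ≤ ((1 + q a) * (1 + q b + q a * q b) * ∏ i ∈ Oᶜ \ {a, b}, (1 + q i)) * ∏ i, (q i - 1) := by
  obtain ⟨o, o', hoo, rfl⟩ := Finset.card_eq_two.1 hO
  set J := ({o, o'} : Finset ι)ᶜ with hJ
  rw [← Finset.prod_mul_prod_compl {o, o'} q, ← Finset.prod_mul_prod_compl {o, o'} (fun i => q i - 1), Finset.prod_pair hoo,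
    Finset.prod_pair hoo, ← hJ]
  have h1 : ∀ f : ι → ℕ, ∏ i ∈ J, f i = f a * (f b * ∏ i ∈ J \ {a, b}, f i) := by
    intro f
    have hsub : {a, b} ⊆ J := by
      intro i hi
      rcases Finset.mem_insert.1 hi with rfl | hi
      · exact ha
      · rw [Finset.mem_singleton.1 hi]; exact hb
    rw [← Finset.prod_sdiff hsub, Finset.prod_pair hab]
    ring
  have h2 : ∏ i ∈ J \ {a, b}, q i ≤
      (∏ i ∈ J \ {a, b}, (1 + q i)) * ∏ i ∈ J \ {a, b}, (q i - 1) := by
    rw [← Finset.prod_mul_distrib]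
    refine Finset.prod_le_prod' fun i _ => ?_
    obtain ⟨r, hr⟩ := Nat.exists_eq_add_of_le (hq i)
    rw [hr]
    have : 2 + r - 1 = r + 1 := by omega
    rw [this]
    nlinarith
  rw [h1, h1]
  obtain ⟨x, hx⟩ := Nat.exists_eq_add_of_le (hq a)
  obtain ⟨y, hy⟩ := Nat.exists_eq_add_of_le (hq b)
  obtain ⟨z, hz⟩ := Nat.exists_eq_add_of_le (hq o)
  obtain ⟨w, hw⟩ := Nat.exists_eq_add_of_le (hq o')
  have e1 : q a - 1 = x + 1 := by omega
  have e2 : q b - 1 = y + 1 := by omega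
  have e3 : q o - 1 = z + 1 := by omega
  have e4 : q o' - 1 = w + 1 := by omega
  rw [e1, e2, e3, e4, hx, hy, hz, hw]
  set P := ∏ i ∈ J \ {a, b}, q i
  set P1 := ∏ i ∈ J \ {a, b}, (1 + q i)
  set P2 := ∏ i ∈ J \ {a, b}, (q i - 1)
  have h3 := edge_le x y
  have h4 : 2 + z ≤ 2 * (z + 1) := by omega
  have h5 : 2 + w ≤ 2 * (w + 1) := by omega
  calc (2 + z) * (2 + w) * ((2 + x) * ((2 + y) * P)) = ((2 + z) * (2 + w)) * ((x + 2) * (y + 2)) * P := by ring
    _ ≤ ((2 * (z + 1)) * (2 * (w + 1))) * ((x + 2) * (y + 2)) * (P1 * P2) :=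
        Nat.mul_le_mul (Nat.mul_le_mul_right _ (Nat.mul_le_mul h4 h5)) h2
    _ = ((z + 1) * (w + 1)) * (4 * ((x + 2) * (y + 2))) * (P1 * P2) := by ring
    _ ≤ ((z + 1) * (w + 1)) * (((x + 3) * (x + 1)) * ((y + 1) * (1 + (y + 2) + (x + 2) * (y + 2)))) * (P1 * P2) :=
        Nat.mul_le_mul_right _ (Nat.mul_le_mul_left _ h3)
    _ = (1 + (2 + x)) * (1 + (2 + y) + (2 + x) * (2 + y)) * P1 * ((z + 1) * (w + 1) * ((x + 1) * ((y + 1) * P2))) := by ring

end num

/-! ### the index -/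

section index

variable {l : ℕ} {W Y : Type*} [Group W] [Group Y] {M : CoxeterMatrix (Fin l)}
  {cs : CoxeterSystem M W} {A : Fin l → Fin l → ℤ} {h : IsCartan M A} {p : ℕ} {T : Subgroup Y} {n : Fin l → Y}
  {X : (Fin l → ℤ) → Subgroup Y}

theorem two_le_card [Finite Y] (R : RGD cs h p T n X) (i : Fin l) : 2 ≤ Nat.card (X (sr i)) := by
  obtain ⟨u, hu, hu1⟩ := exists_ne_one R i
  have : Nontrivial (X (sr i)) := ⟨⟨⟨u, hu⟩, 1, fun h1 => hu1 (congrArg Subtype.val h1)⟩⟩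
  exact Finite.one_lt_card

theorem index_le [Finite W] [Finite Y] [Fact p.Prime] (R : RGD cs h p T n X) (hG : GG cs h T X = ⊤) (hl : 3 ≤ l)
    (O : Finset (Fin l)) (hO : O.card = 1 ∨ (O.card = 2 ∧ 4 ≤ l ∧ ∃ i j : Fin l, i ≠ j ∧ i ∉ O ∧ j ∉ O ∧ M i j ≠ 2)) :
    (PJ cs h T X ((Oᶜ : Finset (Fin l)) : Set (Fin l))).index ≤ Nat.card (RGD.Sup X (RGD.Pos cs h)) := by
  have h1 := H497.CD.index_B_mul_le R hG
  have h2 := Subgroup.relIndex_mul_index (B_le_PJ (cs := cs) (h := h) (T := T) (X := X) (J := ((Oᶜ : Finset (Fin l)) : Set (Fin l))))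
  set q : Fin l → ℕ := fun i => Nat.card (X (sr i)) with hq
  have hq2 : ∀ i, 2 ≤ q i := two_le_card R
  set r := (RGD.B cs h T X).relIndex (PJ cs h T X ((Oᶜ : Finset (Fin l)) : Set (Fin l))) with hr
  have hcc : Oᶜ.card = l - O.card := by rw [Finset.card_compl, Fintype.card_fin]
  have key : ∏ i, q i ≤ r * ∏ i, (q i - 1) := by
    rcases hO with h3 | ⟨h3, h4, i, j, hij, hi, hj, hM⟩
    · refine (num_one q hq2 O h3 (by omega)).trans (Nat.mul_le_mul_right _ (H497.CD.prod_le_relIndex R Oᶜ))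
    · have hi' : i ∈ Oᶜ := Finset.mem_compl.2 hi
      have hj' : j ∈ Oᶜ := Finset.mem_compl.2 hj
      exact (num_two q hq2 O h3 hi' hj' hij).trans (Nat.mul_le_mul_right _
        (H497.CD.prod_le_relIndex_edge R Oᶜ hi' hj' hij hM))
  set a := (PJ cs h T X ((Oᶜ : Finset (Fin l)) : Set (Fin l))).index with ha
  rw [← h2] at h1
  have hpos : 0 < ∏ i, q i := Finset.prod_pos fun i _ => by have := hq2 i; omega
  have h3 : a * ∏ i, q i ≤ Nat.card (RGD.Sup X (RGD.Pos cs h)) * ∏ i, q i := by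
    calc a * ∏ i, q i ≤ a * (r * ∏ i, (q i - 1)) := Nat.mul_le_mul_left _ key
      _ = r * a * ∏ i, (q i - 1) := by ring
      _ ≤ _ := h1
  exact Nat.le_of_mul_le_mul_right h3 hpos

end index

/-! ### two degrees -/

section degrees

variable {G : Type u} [Group G] [Finite G] {p : ℕ} [hp : Fact p.Prime]

theorem st_mem (N : Subgroup G) [hN : N.Normal] {θ : N → ℂ} (hθ : IsSt p θ) (P : Sylow p N) : Nat.card P ∈ charDegrees G := by
  obtain ⟨h1, h2, h3⟩ := hθ
  obtain ⟨h4, h5⟩ := h3 P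
  have h6 := Ext.mem_charDegrees_of_sylow N P h1 h5
  have h7 : inertia N θ = ⊤ := by
    rw [eq_top_iff]
    intro g _
    rw [mem_inertia_iff]
    intro x
    exact h2 (MulAut.conjNormal g : MulAut N) x
  rw [h7, Subgroup.index_top, one_mul, charDegree_of_eq h4] at h6
  exact h6

theorem exists_not_dvd (N : Subgroup G) [hN : N.Normal] (hc : Subgroup.centralizer (N : Set G) = ⊥) (hpN : p ∣ Nat.card N)
    [hs : IsSimpleGroup N] : ∃ m ∈ charDegrees G, m ≠ 1 ∧ ¬ p ∣ m := by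
  by_contra hcon
  push Not at hcon
  obtain ⟨K, hK, hKp, k, hk⟩ := S4456.result (G := G) p hp.out fun χ hχ => hcon _ ⟨χ, rfl⟩ hχ
  have h1 : N ⊓ K = ⊥ := by
    have h2 : ((N ⊓ K).subgroupOf N).Normal := inferInstance
    rcases h2.eq_bot_or_eq_top with h3 | h3
    · rw [Subgroup.subgroupOf_eq_bot, disjoint_iff] at h3
      rw [← h3]
      ext x
      simp only [Subgroup.mem_inf]
      tauto
    · exfalso
      have h4 : N ≤ K := (Subgroup.subgroupOf_eq_top.1 h3).trans inf_le_right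
      have h5 : p ∣ Nat.card K := hpN.trans (Subgroup.card_dvd_of_le h4)
      have h6 := Nat.dvd_gcd h5 (dvd_refl p)
      rw [hKp] at h6
      exact hp.out.one_lt.ne' (Nat.dvd_one.1 h6)
  have h2 : K ≤ Subgroup.centralizer (N : Set G) := by
    intro x hx
    rw [Subgroup.mem_centralizer_iff]
    intro y hy
    have := Subgroup.commute_of_normal_of_disjoint N K hN hK (disjoint_iff.2 h1) y x hy hx
    exact this.eq
  rw [hc, le_bot_iff] at h2
  have h3 : Nat.card G = p ^ k := by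
    rw [← hk, h2, Subgroup.index_bot]
  have h4 : IsPGroup p N := (IsPGroup.of_card h3).to_subgroup N
  have h5 : Nontrivial (Subgroup.center N) := h4.center_nontrivial
  obtain ⟨⟨z, hz⟩, hz1⟩ := exists_ne (1 : Subgroup.center N)
  apply hz1
  have h6 : (z : G) ∈ Subgroup.centralizer (N : Set G) := by
    rw [Subgroup.mem_centralizer_iff]
    intro y hy
    exact congrArg Subtype.val (Subgroup.mem_center_iff.1 hz ⟨y, hy⟩)
  rw [hc, Subgroup.mem_bot] at h6
  exact Subtype.ext (Subtype.ext h6)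

theorem finite_charDegrees : (charDegrees G).Finite := by
  have : Finite (IrrCharacter G) := finite_irr
  exact Set.finite_range _

theorem five_of {a b c d e : ℕ} (ha : a ∈ charDegrees G) (hb : b ∈ charDegrees G) (hc : c ∈ charDegrees G)
    (hd : d ∈ charDegrees G) (he : e ∈ charDegrees G) (hab : a ≠ b) (hac : a ≠ c) (had : a ≠ d) (hae : a ≠ e)
    (hbc : b ≠ c) (hbd : b ≠ d) (hbe : b ≠ e) (hcd : c ≠ d) (hce : c ≠ e) (hde : d ≠ e) : 5 ≤ (charDegrees G).ncard := by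
  have h1 : (({a, b, c, d, e} : Finset ℕ) : Set ℕ) ⊆ charDegrees G := by
    intro x hx
    simp only [Finset.coe_insert, Finset.coe_singleton, Set.mem_insert_iff, Set.mem_singleton_iff] at hx
    rcases hx with rfl | rfl | rfl | rfl | rfl <;> assumption
  have h2 := Set.ncard_le_ncard h1 finite_charDegrees
  rw [Set.ncard_coe_finset] at h2
  have h3 : ({a, b, c, d, e} : Finset ℕ).card = 5 := by
    rw [Finset.card_insert_of_notMem (by simp; tauto), Finset.card_insert_of_notMem (by simp; tauto),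
      Finset.card_insert_of_notMem (by simp; tauto), Finset.card_insert_of_notMem (by simp; tauto), Finset.card_singleton]
  omega

end degrees

/-! ### the main result -/

theorem ne_five {I : Type*} [Fintype I] [DecidableEq I] {M : CoxeterMatrix I} {A : I → I → ℤ} (h : IsCartan M A) (a b : I) :
    M a b ≠ 5 := by
  intro hab
  by_cases hne : a = b
  · rw [hne, M.diagonal] at hab; omega
  · rcases h.rel a b hne with h1 | h1 | h1 | h1 <;> omega

theorem five_rank_three {G : Type u} [Group G] [Finite G] {p : ℕ} [hp : Fact p.Prime] (N : Subgroup G) [N.Normal]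
    (hc : Subgroup.centralizer (N : Set G) = ⊥) [IsSimpleGroup N] {l : ℕ} (hl : 3 ≤ l) {W : Type*} [Group W] [Finite W]
    {M : CoxeterMatrix (Fin l)} {cs : CoxeterSystem M W} {A : Fin l → Fin l → ℤ} {h : IsCartan M A} {T : Subgroup N}
    {n : Fin l → N} {X : (Fin l → ℤ) → Subgroup N} (R : RGD cs h p T n X) (hG : GG cs h T X = ⊤) (hC : CommGen cs h X)
    (hconn : H396.Conn M) (θ : N → ℂ) (hθ : IsSt p θ) : 5 ≤ (charDegrees G).ncard := by
  classical
  let _ : Fintype G := Fintype.ofFinite G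
  obtain ⟨O, hOσ, hO⟩ := exists_nodes hl M cs (ne_five h) hconn
  set J : Set (Fin l) := ((Oᶜ : Finset (Fin l)) : Set (Fin l)) with hJdef
  have hmem : ∀ i, i ∈ O ↔ i ∉ J := by
    intro i
    rw [hJdef, Finset.mem_coe, Finset.mem_compl, not_not]
  have hJ : Stable M J := by
    intro σ hσ
    have h1 : ∀ i, σ i ∈ O ↔ i ∈ O := by
      intro i
      constructor
      · intro h2
        have h3 : O.map σ.toEmbedding = O := by
          apply Finset.eq_of_subset_of_card_le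
          · intro x hx
            obtain ⟨y, hy, rfl⟩ := Finset.mem_map.1 hx
            exact hOσ σ hσ y hy
          · rw [Finset.card_map]
        rw [← h3] at h2
        obtain ⟨y, hy, e⟩ := Finset.mem_map.1 h2
        have : y = i := σ.injective e
        rwa [← this]
      · exact hOσ σ hσ i
    ext i
    constructor
    · rintro ⟨j, hj, rfl⟩
      by_contra h2
      rw [← hmem] at h2
      exact (hmem j).1 ((h1 j).1 h2) hj
    · intro hi
      refine ⟨σ.symm i, ?_, σ.apply_symm_apply i⟩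
      by_contra h2
      rw [← hmem] at h2
      have h3 := (h1 _).2 h2
      rw [σ.apply_symm_apply] at h3
      exact (hmem i).1 h3 hi
  obtain ⟨P, hP⟩ := exists_sylow R hG
  set Q := Nat.card P with hQ
  have hQU : Nat.card (RGD.Sup X (RGD.Pos cs h)) = Q := by rw [hQ, ← hP]
  have hidx : (HJ cs h T X J).index ≤ Q := by
    rw [index_eq R hG hJ, ← hQU]
    exact index_le R hG hl O hO
  -- `p ∣ Q`
  have hl0 : 0 < l := by omega
  have hpQ : p ∣ Q := by
    obtain ⟨m, hm⟩ := IsPGroup.iff_card.1 P.isPGroup'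
    have h1 : 2 ≤ Nat.card (X (sr (⟨0, hl0⟩ : Fin l))) := two_le_card R _
    have h2 : Nat.card (X (sr (⟨0, hl0⟩ : Fin l))) ≤ Q := by
      rw [← hQU]
      exact Nat.le_of_dvd Nat.card_pos (Subgroup.card_dvd_of_le (H497.CD.X_le_U _))
    have h3 : m ≠ 0 := by
      rintro rfl
      rw [pow_zero] at hm
      have : Q = 1 := hm
      omega
    change p ∣ Nat.card P
    rw [show Nat.card P = p ^ m from hm]
    exact dvd_pow_self p h3
  have hQmem : Q ∈ charDegrees G := st_mem N hθ P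
  obtain ⟨m, hm, hm1, hmp⟩ := exists_not_dvd (p := p) N hc (hpQ.trans (Subgroup.card_subgroup_dvd_card (P : Subgroup N)))
  have h1mem : 1 ∈ charDegrees G := ⟨⟨_, isIrr_one⟩, charDegree_of_eq (by simp)⟩
  -- the constituents
  have hcon : ∀ χ : G → ℂ, IsIrrCharacter G χ → (χ ≠ fun _ => 1) →
      classInner (fun g : G => (Nat.card (fixedBy (G ⧸ HJ cs h T X J) g) : ℂ)) χ ≠ 0 →
      charDegree χ ∈ charDegrees G ∧ p ∣ charDegree χ ∧ charDegree χ < Q := by
    intro χ h1 h2 h3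
    let _ : Fintype (G ⧸ HJ cs h T X J) := Fintype.ofFinite _
    refine ⟨⟨⟨χ, h1⟩, rfl⟩, dvd_constituent R hG hC hJ h1 h2 h3, lt_of_lt_of_le
      (H69.OctChar.degree_lt (Ω := G ⧸ HJ cs h T X J) (QuotientGroup.mk 1) h1 h2 h3) hidx⟩
  by_contra hlt
  have hall : ∀ χ ξ : G → ℂ, IsIrrCharacter G χ → (χ ≠ fun _ => 1) →
      classInner (fun g : G => (Nat.card (fixedBy (G ⧸ HJ cs h T X J) g) : ℂ)) χ ≠ 0 → IsIrrCharacter G ξ → (ξ ≠ fun _ => 1) →
      classInner (fun g : G => (Nat.card (fixedBy (G ⧸ HJ cs h T X J) g) : ℂ)) ξ ≠ 0 → charDegree χ = charDegree ξ := by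
    intro χ ξ h1 h2 h3 h4 h5 h6
    by_contra hne
    obtain ⟨c1, c2, c3⟩ := hcon χ h1 h2 h3
    obtain ⟨d1, d2, d3⟩ := hcon ξ h4 h5 h6
    apply hlt
    have hp1 : ¬ p ∣ 1 := fun h7 => hp.out.one_lt.ne' (Nat.dvd_one.1 h7)
    refine five_of h1mem hQmem hm c1 d1 ?_ (Ne.symm hm1) ?_ ?_ ?_ (ne_of_gt c3) (ne_of_gt d3) ?_ ?_ hne
    · intro h7; exact hp1 (h7 ▸ hpQ)
    · intro h7; exact hp1 (h7 ▸ c2)
    · intro h7; exact hp1 (h7 ▸ d2)
    · intro h7; exact hmp (h7 ▸ hpQ)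
    · intro h7; exact hmp (h7 ▸ c2)
    · intro h7; exact hmp (h7 ▸ d2)
  have hOcard : O.card = 1 ∨ O.card = 2 := by
    rcases hO with h1 | ⟨h1, -⟩
    · exact Or.inl h1
    · exact Or.inr h1
  have hJne : J.Nonempty := by
    have h1 : 0 < Oᶜ.card := by
      rw [Finset.card_compl, Fintype.card_fin]; omega
    obtain ⟨i, hi⟩ := Finset.card_pos.1 h1
    exact ⟨i, hi⟩
  by_cases hex : ∃ χ : G → ℂ, IsIrrCharacter G χ ∧ (χ ≠ fun _ => 1) ∧
      classInner (fun g : G => (Nat.card (fixedBy (G ⧸ HJ cs h T X J) g) : ℂ)) χ ≠ 0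
  · obtain ⟨ξ, h1, h2, h3⟩ := hex
    exact false_of_eq R hG hconn hJ hJne O hmem hOcard (charDegree ξ) fun χ h4 h5 h6 => hall χ ξ h4 h5 h6 h1 h2 h3
  · push Not at hex
    exact false_of_eq R hG hconn hJ hJne O hmem hOcard 0 fun χ h4 h5 h6 => absurd (hex χ h4 h5) h6

end Cfsg.Agent.H638.FD.RankThree
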