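import Cfsg.Agent.H638.FD.LieGen
import Cfsg.Agent.H783.CGTable
import Cfsg.Agent.H279.FiveAlt
import Cfsg.Agent.H597.L2Row
import Cfsg.Agent.H145.FivePSU3
import Cfsg.Agent.H145.FiveSp2
import Cfsg.Agent.H740.FiveSz
import Cfsg.Agent.H740.FiveRee
import Cfsg.Agent.H603.FD.LieRows
import Cfsg.Agent.H603.FD.TitsRow
import Cfsg.Agent.H603.FD.LThree
import Cfsg.Agent.H603.FD.Spor
import Cfsg.Agent.H603.FD.JOne
import Cfsg.Agent.H693.FiveL3
import Cfsg.Agent.H118.FD.Rows
import Cfsg.Agent.H590.Five.He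
import Cfsg.Agent.H590.Five.ON
import Cfsg.Agent.H590.Five.HN
import Cfsg.Agent.H590.Five.Fi22
import Cfsg.Agent.H590.Five.FiTF
import Cfsg.Agent.H604.FD.Rows
import Cfsg.Agent.H859.Five.Th
import Cfsg.Agent.H859.Five.Ly
import Cfsg.Agent.H859.Five.B
import Cfsg.Agent.H859.Five.M
import Cfsg.Agent.H69.OctMain
import Cfsg.Agent.H621.Deg.Quot
import Cfsg.Agent.H621.Deg.Split
import Cfsg.Agent.H519.FiveMulti
import Cfsg.Agent.H793.PC.FiveLie
import Cfsg.Agent.CpQuot.Congr
import Cfsg.Agent.H858.NRowLie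
import Cfsg.Agent.S0255
import Cfsg.Agent.SmallSimple.EvenOrder

/-!
# Groups with four character degrees: all the almost simple groups (helper638, S4898)
-/

set_option autoImplicit false

namespace Cfsg.Agent.H638.FD.Rows

open Cfsg Subgroup Cfsg.Agent.Lib.MinNormalNonabelian

universe u

/-- the sporadic groups -/
theorem five_spor {G : Type u} [Group G] [Finite G] (M : Subgroup G) (hM : M.Normal)
    (hc : centralizer (M : Set G) = ⊥) (h : IsSporadicGroup M) : 5 ≤ (charDegrees G).ncard := by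
  rcases h with h | h | h | h | h | h | h | h | h | h | h | h | h | h | h | h | h | h | h | h | h | h | h | h | h | h
  · exact H603.FD.Spor.five_M11 M hM hc h
  · exact H603.FD.Spor.five_M12 M hM hc h
  · exact H603.FD.Spor.five_M22 M hM hc h
  · exact H603.FD.Spor.five_M23 M hM hc h
  · exact H603.FD.Spor.five_M24 M hM hc h
  · exact H603.FD.JOne.five_J1 M hM hc h
  · exact H118.FD.Rows.five_J2 M hM hc h
  · exact H118.FD.Rows.five_J3 M hM hc h
  · exact H604.FD.Rows.five_J4 M hM hc h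
  · exact H604.FD.Rows.five_Co1 M hM hc h
  · exact H604.FD.Rows.five_Co2 M hM hc h
  · exact H604.FD.Rows.five_Co3 M hM hc h
  · exact H118.FD.Rows.five_McL M hM hc h
  · exact H118.FD.Rows.five_HS M hM hc h
  · exact H118.FD.Rows.five_Suz M hM hc h
  · exact H590.Five.HeRow.five_He M hM hc h
  · exact H604.FD.Rows.five_Ru M hM hc h
  · exact H590.Five.ONRow.five_ON M hM hc h
  · exact H859.Five.five_Ly M hM hc h
  · exact H590.Five.Fi22Row.five_Fi22 M hM hc h
  · exact H604.FD.Rows.five_Fi23 M hM hc h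
  · exact H590.Five.FiTFRow.five_Fi24p M hM hc h
  · exact H590.Five.HNRow.five_HN M hM hc h
  · exact H859.Five.five_Th M hM hc h
  · exact H859.Five.five_B M hM hc h
  · exact H859.Five.five_M M hM hc h

/-- the groups not of Lie type -/
theorem five_nonlie {G : Type u} [Group G] [Finite G] (M : Subgroup G) (hM : M.Normal)
    (hc : centralizer (M : Set G) = ⊥)
    (h : (∃ n, 7 ≤ n ∧ Nonempty (M ≃* alternatingGroup (Fin n))) ∨ Lie.IsoTits M ∨ IsSporadicGroup M) :
    5 ≤ (charDegrees G).ncard := by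
  rcases h with ⟨n, hn, h⟩ | h | h
  · exact H279.FiveAlt.five_alt M hM hc n hn h
  · exact H603.FD.TitsRow.five_tits M hM hc h
  · exact five_spor M hM hc h

/-- the groups of Lie type -/
theorem row_lie {G : Type u} [Group G] [Finite G] (M : Subgroup G) (hM : M.Normal)
    (hc : centralizer (M : Set G) = ⊥) [IsSimpleGroup M] {p : ℕ} (hp : p.Prime) (h : IsLieTypeChar p M) :
    5 ≤ (charDegrees G).ncard ∨ ∃ (F : Type) (_ : Field F) (_ : Fintype F), 4 ≤ Fintype.card F ∧
      Nonempty (M ≃* Matrix.ProjectiveSpecialLinearGroup (Fin 2) F) := by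
  have : Fact p.Prime := ⟨hp⟩
  rcases H783.CGTable.table' h with h1 | h1 | ⟨F, i1, i2, i3, h1⟩
  · obtain ⟨θ, hθ⟩ := LieGen.exists_st hp h
    exact Or.inl (LieGen.five_HasCG' M hc h1 θ hθ)
  · rcases h1 with ⟨F, i1, i2, i3, h1, h2⟩ | ⟨F, i1, i2, i3, q, h1, h2, h3⟩ | ⟨-, h1⟩ | ⟨-, h1⟩ | ⟨-, h1⟩ |
      ⟨-, F, i1, i2, m, h1, h2, h3⟩ | ⟨-, F, i1, i2, h1, h2⟩ | ⟨-, F, i1, i2, h1, h2⟩
    · exact Or.inr ⟨F, i1, i2, h1, h2⟩
    · refine Or.inl (H145.FivePSU3.five_psu3 M hM hc F q h1 ?_ h3)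
      have h4 : 1 < Fintype.card F := Fintype.one_lt_card
      by_contra h5
      have h6 : q = 0 ∨ q = 1 := by omega
      rcases h6 with rfl | rfl <;> norm_num at h1 <;> omega
    · exact Or.inl (H740.FiveSz.five_sz M hM hc h1)
    · exact Or.inl (H740.FiveRee.five_ree M hM hc h1)
    · exact Or.inl (H69.OctMain.five_2F4 M hM hc h1)
    · exact Or.inl (H145.FiveSp2.five_sp2 M hM hc F h1 m h2 h3)
    · exact Or.inl (H603.FD.LieRows.five_G23 M hM hc F h1 h2)
    · exact Or.inl (H603.FD.LieRows.five_F42 M hM hc F h1 h2)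
  · by_cases h2 : Fintype.card F = 2
    · right
      have : Fact (Nat.Prime 7) := ⟨by norm_num⟩
      obtain ⟨e⟩ := h1
      obtain ⟨f⟩ := Cfsg.Agent.S0255.result (F := ZMod 7) (K := F) (ZMod.card 7) h2
      exact ⟨ZMod 7, inferInstance, inferInstance, by rw [ZMod.card]; norm_num, ⟨e.trans f.symm⟩⟩
    · left
      by_cases h4 : Fintype.card F = 4
      · exact H603.FD.LThree.five_L34 M hM hc F h4 h1
      · exact H693.FiveL3.five_L3 M hM hc F h2 h4 h1

/-- the Sylow subgroups of a simple group of Lie type -/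
theorem three_le {S : Type u} [Group S] [Finite S] [IsSimpleGroup S] {p : ℕ} [hp : Fact p.Prime] (h : IsLieTypeChar p S)
    (P : Sylow p S) : 3 ≤ Nat.card P := by
  have h1 : p ∣ Nat.card S := H858.NRowLie.dvd_card_of_lie h
  have h2 : p ∣ Nat.card P := P.dvd_card_of_dvd_card h1
  have h3 : p ≤ Nat.card P := Nat.le_of_dvd Nat.card_pos h2
  rcases Nat.lt_or_ge p 3 with h4 | h4
  · have h5 : p = 2 := by have := hp.out.two_le; omega
    subst h5
    have h6 : 4 ∣ Nat.card S := SmallSimple.EvenOrder.four_dvd_card (H858.NRowLie.noncomm_of_lie h) h1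
    have h7 : 2 ^ 2 ∣ Nat.card P := P.pow_dvd_card_of_pow_dvd_card (by norm_num; exact h6)
    have h8 := Nat.le_of_dvd Nat.card_pos h7
    norm_num at h8
    omega
  · omega

/-- **the reduced theorem**: a group with a unique minimal normal subgroup, which is not abelian -/
theorem main (hk : ∀ (S : Type u) [Group S] [Finite S] [IsSimpleGroup S], IsKnownSimple' S)
    {G : Type u} [Group G] [Finite G] (K : Subgroup G) [K.Normal]
    (hmin : ∀ L : Subgroup G, L.Normal → L ≤ K → L = ⊥ ∨ L = K) (hna : ¬ ∀ x ∈ K, ∀ y ∈ K, Commute x y)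
    (hc : centralizer (K : Set G) = ⊥) (h4 : (charDegrees G).ncard = 4) :
    (∃ q : ℕ, IsPrimePow q ∧ 3 < q ∧ charDegrees G = {1, q - 1, q, q + 1}) ∨ charDegrees G = {1, 9, 10, 16} := by
  obtain ⟨⟨S, hS⟩, -, -, hsimp, hcS, -⟩ := nonabelian_structure K hmin hna
  have hs := hsimp S hS
  have hnS : ¬ ∀ x y : S, x * y = y * x := by
    intro h
    apply hS.2.1
    rw [eq_bot_iff]
    intro x hx
    exact mem_bot.2 (hcS S hS x hx fun t ht => congrArg Subtype.val (h ⟨x, hx⟩ ⟨t, ht⟩))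
  have h5 : 5 ≤ (charDegrees G).ncard → False := fun h => by omega
  by_cases hne : S = K
  · subst hne
    rcases H621.Deg.split_of_known (hk S) hnS with h | ⟨p, hp, h⟩ | h
    · exact (h5 (five_nonlie S inferInstance hc (Or.inl h))).elim
    · rcases row_lie S inferInstance hc hp h with h | ⟨F, i1, i2, hF, e⟩
      · exact (h5 h).elim
      · exact H597.L2Row.row_psl2 S inferInstance hc F hF e h4
    · exact (h5 (five_nonlie S inferInstance hc (Or.inr h))).elim
  · exfalso
    by_cases hL : ∃ p, p.Prime ∧ IsLieTypeChar p S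
    · obtain ⟨p, hp, h⟩ := hL
      have : Fact p.Prime := ⟨hp⟩
      obtain ⟨θ, hθ⟩ := LieGen.exists_st hp h
      exact h5 (H793.PC.five_multi_lie K hmin hna S hS hne θ hθ (three_le h))
    · refine h5 (H519.FiveMulti.five_multi_row K hmin hna S hS hne ?_)
      intro A _ _ T hT hcT ⟨e⟩
      have hsT : IsSimpleGroup T := e.isSimpleGroup_congr.2 hs
      have hnT : ¬ ∀ x y : T, x * y = y * x := fun h => hnS fun x y => by
        have h1 := congrArg e (h (e.symm x) (e.symm y))
        rwa [map_mul, map_mul, e.apply_symm_apply, e.apply_symm_apply] at h1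
      have h6 : (∃ n, 7 ≤ n ∧ Nonempty (T ≃* alternatingGroup (Fin n))) ∨ Lie.IsoTits T ∨ IsSporadicGroup T := by
        rcases H621.Deg.split_of_known (hk T) hnT with h | ⟨p, hp, h⟩ | h
        · exact Or.inl h
        · exact (hL ⟨p, hp, (CpQuot.Congr.isLieTypeChar_iff e p).1 h⟩).elim
        · exact Or.inr h
      exact ⟨five_nonlie T hT hcT h6, H621.Deg.comm_mem T hT hcT h6⟩

end Cfsg.Agent.H638.FD.Rows
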